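import Cfsg.Agent.SmallGroups.SelfCentPrime.Cofactor.MinusFour
import Cfsg.Agent.SmallGroups.SelfCentPrime.Classify

/-!
# Simple groups of order `p * q ^ b * g₀` with `g₀ < p - 1`
-/

set_option linter.style.haveILetI false

noncomputable section

namespace Cfsg.Agent.SmallGroups.SelfCentPrime.Cofactor

open Cfsg

universe u

variable {G : Type u} [Group G] [Finite G] [IsSimpleGroup G]

/-- The prime is a Mersenne or Fermat prime and the group is classified by the Sylow count. -/
theorem conclusion_of_card (hG : ¬ IsMulCommutative G) {p q b g₀ : ℕ} [hp : Fact p.Prime] (hq : q.Prime)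
    (hpq : p ≠ q) (hcard : Nat.card G = p * q ^ b * g₀) (hg : g₀ < p - 1) :
    (∃ k, p = 2 ^ k + 1 ∨ p + 1 = 2 ^ k) ∧ Conclusion G p := by
  letI := Fintype.ofFinite G
  obtain ⟨P⟩ := (inferInstance : Nonempty (Sylow p G))
  have hnd : ¬ p ∣ q ^ b * g₀ := by
    intro h
    rcases (hp.out.dvd_mul).1 h with h | h
    · exact hpq ((Nat.prime_dvd_prime_iff_eq hp.out hq).1 (hp.out.dvd_of_dvd_pow h))
    · rcases Nat.eq_zero_or_pos g₀ with h0 | h0
      · rw [h0, mul_zero] at hcard
        exact Nat.card_pos.ne' hcard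
      · have := Nat.le_of_dvd h0 h
        omega
  have hP : Nat.card ↥(P : Subgroup G) = p :=
    (SmallGroups.card_sylow_subgroup (a := 1) (m := q ^ b * g₀) (by rw [hcard]; ring) hnd P).trans (pow_one p)
  obtain ⟨x, e, S, t, ε, d, X, Y, sg, dg, D⟩ := exists_data hG P hP hq hpq hcard hg
  rcases D.cases with ⟨rfl, -⟩ | ⟨rfl, -⟩
  · obtain ⟨k, -, hk, hn⟩ := D.plus_conclusion hG S
    have := D.three_le_p
    exact ⟨⟨k, .inr hk⟩, conclusion_of_simple hG P hP S.cent hn (by omega)⟩
  · obtain ⟨rfl, hd, i, hi, hib, he⟩ := D.minus_arith S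
    rcases Nat.lt_or_ge i 2 with h | h
    · obtain ⟨n, hn, h2n, k, hk⟩ := D.minus_two hG S (by rw [he, show i = 1 by omega, pow_one])
      exact ⟨⟨k, .inl hk⟩, conclusion_of_simple hG P hP S.cent hn h2n⟩
    · obtain ⟨hn, k, hk⟩ := D.minus_four hG S hd h hib he
      have := D.three_le_p
      exact ⟨⟨k, .inl hk⟩, conclusion_of_simple hG P hP S.cent hn (by omega)⟩

end Cfsg.Agent.SmallGroups.SelfCentPrime.Cofactor
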