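import Cfsg.Agent.Char.Basic
import Mathlib.LinearAlgebra.Trace
import Mathlib.Data.ZMod.Basic

/-!
# Eigenspace projections and their traces

For `h ^ n = 1` and `η ^ n = 1` the mean of `η ^ k ρ (h ^ k)` is a projection, so that the corresponding
character sums are natural numbers, and vanish after multiplication by any element if they vanish.
-/

set_option autoImplicit false

noncomputable section

namespace Cfsg.Agent.SmallGroups.SelfCentPrime.Cofactor

open Cfsg
open scoped Classical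

variable {G : Type*} [Group G]

theorem pow_val_add {M : Type*} [Monoid M] {n : ℕ} [NeZero n] {a : M} (ha : a ^ n = 1)
    (k l : ZMod n) : a ^ (k + l).val = a ^ k.val * a ^ l.val := by
  rw [ZMod.val_add, ← pow_add]
  conv_rhs => rw [← Nat.mod_add_div (k.val + l.val) n]
  rw [pow_add, pow_mul, ha, one_pow, mul_one]

variable {V : Type*} [AddCommGroup V] [Module ℂ V]

/-- The projection to the eigenspace of `ρ h` for the eigenvalue `η⁻¹`. -/
def proj (ρ : Representation ℂ G V) (n : ℕ) [NeZero n] (h : G) (η : ℂ) : Module.End ℂ V :=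
  (n : ℂ)⁻¹ • ∑ k : ZMod n, η ^ k.val • ρ (h ^ k.val)

variable (ρ : Representation ℂ G V) {n : ℕ} [NeZero n] {h : G} {η : ℂ}

theorem isIdempotentElem_proj (hh : h ^ n = 1) (hη : η ^ n = 1) :
    IsIdempotentElem (proj ρ n h η) := by
  have hn : (n : ℂ) ≠ 0 := Nat.cast_ne_zero.2 (NeZero.ne n)
  unfold IsIdempotentElem proj
  rw [smul_mul_smul_comm, Finset.sum_mul]
  have h1 : ∀ k : ZMod n, (η ^ k.val • ρ (h ^ k.val)) * ∑ l : ZMod n, η ^ l.val • ρ (h ^ l.val) =
      ∑ j : ZMod n, η ^ j.val • ρ (h ^ j.val) := by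
    intro k
    rw [Finset.mul_sum]
    refine Fintype.sum_equiv (Equiv.addLeft k) _ _ fun l => ?_
    rw [smul_mul_smul_comm, ← map_mul, ← pow_val_add hh, ← pow_val_add hη]
    rfl
  rw [Finset.sum_congr rfl fun k _ => h1 k, Finset.sum_const, Finset.card_univ, ZMod.card,
    ← Nat.cast_smul_eq_nsmul ℂ, smul_smul]
  congr 1
  field_simp

theorem commute_proj {u : G} (hu : Commute u h) : Commute (ρ u) (proj ρ n h η) := by
  refine Commute.smul_right (Commute.sum_right _ _ _ fun k _ => Commute.smul_right ?_ _) _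
  exact Commute.map (hu.pow_right _) ρ

theorem trace_mul_proj (z : G) :
    LinearMap.trace ℂ V (ρ z * proj ρ n h η) =
      (n : ℂ)⁻¹ * ∑ k : ZMod n, η ^ k.val * ρ.character (z * h ^ k.val) := by
  rw [proj, mul_smul_comm, map_smul, Finset.mul_sum, map_sum, smul_eq_mul]
  congr 1
  refine Finset.sum_congr rfl fun k _ => ?_
  rw [mul_smul_comm, map_smul, ← map_mul, smul_eq_mul]
  rfl

theorem trace_proj : LinearMap.trace ℂ V (proj ρ n h η) =
    (n : ℂ)⁻¹ * ∑ k : ZMod n, η ^ k.val * ρ.character (h ^ k.val) := by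
  have := trace_mul_proj ρ (n := n) (h := h) (η := η) 1
  rw [map_one, one_mul] at this
  simpa using this

variable [FiniteDimensional ℂ V]

theorem trace_eq_finrank {f : Module.End ℂ V} (hf : IsIdempotentElem f) :
    LinearMap.trace ℂ V f = (Module.finrank ℂ (LinearMap.range f) : ℂ) :=
  (LinearMap.IsIdempotentElem.isProj_range f hf).trace

variable {χ : G → ℂ} (hχ : IsCharacter G χ)
include hχ

omit [AddCommGroup V] [Module ℂ V] [FiniteDimensional ℂ V]

/-- The multiplicity of an eigenvalue. -/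
theorem exists_nat_sum (hh : h ^ n = 1) (hη : η ^ n = 1) :
    ∃ m : ℕ, ∑ k : ZMod n, η ^ k.val * χ (h ^ k.val) = (n : ℂ) * m := by
  obtain ⟨N, ρ, rfl⟩ := hχ
  refine ⟨Module.finrank ℂ (LinearMap.range (proj ρ n h η)), ?_⟩
  rw [← trace_eq_finrank (isIdempotentElem_proj ρ hh hη), trace_proj,
    mul_inv_cancel_left₀ (Nat.cast_ne_zero.2 (NeZero.ne n))]

/-- A sum over a missing eigenvalue stays zero after multiplication. -/
theorem sum_mul_eq_zero (hh : h ^ n = 1) (hη : η ^ n = 1)
    (h0 : ∑ k : ZMod n, η ^ k.val * χ (h ^ k.val) = 0) (z : G) :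
    ∑ k : ZMod n, η ^ k.val * χ (z * h ^ k.val) = 0 := by
  obtain ⟨N, ρ, rfl⟩ := hχ
  have hid := isIdempotentElem_proj ρ hh hη
  have hr := trace_eq_finrank hid
  rw [trace_proj, h0, mul_zero, eq_comm, Nat.cast_eq_zero, Submodule.finrank_eq_zero,
    LinearMap.range_eq_bot] at hr
  have h1 := trace_mul_proj ρ (n := n) (h := h) (η := η) z
  rw [hr, mul_zero, map_zero, eq_comm, mul_eq_zero] at h1
  exact h1.resolve_left (inv_ne_zero (Nat.cast_ne_zero.2 (NeZero.ne n)))

/-- An involution splits each eigenspace of an element commuting with it. -/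
theorem exists_split {u : G} (hu : u * u = 1) (huh : Commute u h) (hh : h ^ n = 1) (hη : η ^ n = 1) :
    ∃ a b : ℕ, ∑ k : ZMod n, η ^ k.val * χ (h ^ k.val) = (n : ℂ) * (a + b) ∧
      ∑ k : ZMod n, η ^ k.val * χ (u * h ^ k.val) = (n : ℂ) * (a - b) := by
  obtain ⟨N, ρ, rfl⟩ := hχ
  set Q := proj ρ n h η with hQ
  set U := ρ u with hU
  have hQQ : Q * Q = Q := isIdempotentElem_proj ρ hh hη
  have hUU : U * U = 1 := by rw [hU, ← map_mul, hu, map_one]
  have hc : U * Q = Q * U := (commute_proj ρ huh).eq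
  set Qp := (2 : ℂ)⁻¹ • (Q + U * Q) with hQp
  set Qm := (2 : ℂ)⁻¹ • (Q - U * Q) with hQm
  have e1 : Q * (U * Q) = U * Q := by rw [← mul_assoc, ← hc, mul_assoc, hQQ]
  have e2 : U * Q * Q = U * Q := by rw [mul_assoc, hQQ]
  have e3 : U * Q * (U * Q) = Q := by rw [mul_assoc, e1, ← mul_assoc, hUU, one_mul]
  have hp : IsIdempotentElem Qp := by
    unfold IsIdempotentElem
    rw [hQp, smul_mul_smul_comm, add_mul, mul_add, mul_add, hQQ, e1, e2, e3,
      show Q + U * Q + (U * Q + Q) = (2 : ℂ) • (Q + U * Q) by rw [two_smul]; abel, smul_smul]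
    norm_num
  have hm : IsIdempotentElem Qm := by
    unfold IsIdempotentElem
    rw [hQm, smul_mul_smul_comm, sub_mul, mul_sub, mul_sub, hQQ, e1, e2, e3,
      show Q - U * Q - (U * Q - Q) = (2 : ℂ) • (Q - U * Q) by rw [two_smul]; abel, smul_smul]
    norm_num
  refine ⟨Module.finrank ℂ (LinearMap.range Qp), Module.finrank ℂ (LinearMap.range Qm), ?_, ?_⟩
  · rw [← trace_eq_finrank hp, ← trace_eq_finrank hm, ← map_add,
      show Qp + Qm = Q by rw [hQp, hQm, ← smul_add, add_add_sub_cancel, ← two_smul ℂ, smul_smul]; norm_num,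
      hQ, trace_proj, mul_inv_cancel_left₀ (Nat.cast_ne_zero.2 (NeZero.ne n))]
  · rw [← trace_eq_finrank hp, ← trace_eq_finrank hm, ← map_sub,
      show Qp - Qm = U * Q by
        rw [hQp, hQm]; module,
      hQ, hU, trace_mul_proj, mul_inv_cancel_left₀ (Nat.cast_ne_zero.2 (NeZero.ne n))]

/-- Two involutions, each with a single eigenvalue `1`, have a product with a large fixed space. -/
theorem le_fixed_of_involutions {d : ℕ} (hd : χ 1 = d) {z z' : G} (hz : z * z = 1) (hz' : z' * z' = 1)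
    (hv : χ z = 2 - (d : ℂ)) (hv' : χ z' = 2 - (d : ℂ)) (j : ℕ) (hh : ((z * z') ^ j) ^ n = 1) :
    ∃ m : ℕ, ∑ k : ZMod n, χ (((z * z') ^ j) ^ k.val) = (n : ℂ) * m ∧ d ≤ m + 2 := by
  obtain ⟨N, ρ, rfl⟩ := hχ
  set g := z * z'
  set h := g ^ j
  set Q := proj ρ n h 1 with hQ
  refine ⟨Module.finrank ℂ (LinearMap.range Q), ?_, ?_⟩
  · rw [← trace_eq_finrank (isIdempotentElem_proj ρ hh (one_pow n)), trace_proj,
      mul_inv_cancel_left₀ (Nat.cast_ne_zero.2 (NeZero.ne n))]
    simp
  have hdim : Module.finrank ℂ (Fin N → ℂ) = d := by exact_mod_cast ρ.char_one.symm.trans hd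
  have hrk : ∀ a : G, a * a = 1 → ρ.character a = 2 - (d : ℂ) →
      Module.finrank ℂ (LinearMap.range (1 + ρ a)) = 1 := by
    intro a ha hav
    have haa : ρ a * ρ a = 1 := by rw [← map_mul, ha, map_one]
    have hid : IsIdempotentElem ((2 : ℂ)⁻¹ • (1 + ρ a)) := by
      unfold IsIdempotentElem
      rw [smul_mul_smul_comm, add_mul, mul_add, mul_add, one_mul, mul_one, one_mul, haa,
        show (1 : Module.End ℂ (Fin N → ℂ)) + ρ a + (ρ a + 1) = (2 : ℂ) • (1 + ρ a) by
          rw [two_smul]; abel, smul_smul]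
      norm_num
    have h1 := trace_eq_finrank hid
    rw [map_smul, map_add, LinearMap.trace_one, hdim,
      show LinearMap.trace ℂ _ (ρ a) = ρ.character a from rfl, hav,
      LinearMap.range_smul _ _ (by norm_num)] at h1
    have h2 : ((Module.finrank ℂ (LinearMap.range (1 + ρ a)) : ℕ) : ℂ) = 1 := by
      rw [← h1]; norm_num
    exact_mod_cast h2
  set T := 1 + ρ z with hT
  set T' := 1 + ρ z' with hT'
  have hle : LinearMap.range (ρ g - 1) ≤ LinearMap.range T ⊔ LinearMap.range T' := by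
    rintro _ ⟨v, rfl⟩
    have e : ρ g - 1 = T * (T' - 1) - T' := by
      rw [hT, hT', map_mul, add_sub_cancel_left, add_mul, one_mul]; abel
    rw [e, LinearMap.sub_apply, Module.End.mul_apply]
    exact sub_mem (Submodule.mem_sup_left (LinearMap.mem_range_self _ _))
      (Submodule.mem_sup_right (LinearMap.mem_range_self _ _))
  have h2 := (Submodule.finrank_mono hle).trans (Submodule.finrank_add_le_finrank_add_finrank _ _)
  rw [hrk z hz hv, hrk z' hz' hv'] at h2
  have h3 := LinearMap.finrank_range_add_finrank_ker (ρ g - 1)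
  rw [hdim] at h3
  have hker : LinearMap.ker (ρ g - 1) ≤ LinearMap.range Q := by
    intro v hv
    rw [LinearMap.mem_ker, LinearMap.sub_apply, sub_eq_zero, Module.End.one_apply] at hv
    have hfix : ∀ i : ℕ, ρ (g ^ i) v = v := by
      intro i
      induction i with
      | zero => simp
      | succ i ih => rw [pow_succ, map_mul, Module.End.mul_apply, hv, ih]
    refine ⟨v, ?_⟩
    have hk : ∀ k : ℕ, ρ (h ^ k) v = v := fun k => by rw [← pow_mul]; exact hfix _
    simp only [hQ, proj, LinearMap.smul_apply, LinearMap.sum_apply, one_pow, one_smul, hk,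
      Finset.sum_const, Finset.card_univ, ZMod.card, ← Nat.cast_smul_eq_nsmul ℂ, smul_smul]
    rw [inv_mul_cancel₀ (Nat.cast_ne_zero.2 (NeZero.ne n)), one_smul]
  have h4 := Submodule.finrank_mono hker
  omega

end Cfsg.Agent.SmallGroups.SelfCentPrime.Cofactor
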