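import Cfsg.Agent.SmallGroups.SelfCentPrime.Cofactor.Data
import Cfsg.Agent.SmallGroups.SelfCentPrime.Cofactor.Projection
import Cfsg.Agent.OddChar.Twist
import Cfsg.Agent.Char.Integrality

/-!
# Groups of order `p * q ^ b * g₀` with `g₀ < p - 1`: general consequences of the block data
-/

set_option linter.style.haveILetI false
set_option linter.unusedSectionVars false

noncomputable section

namespace Cfsg.Agent.SmallGroups.SelfCentPrime.Cofactor

open scoped Classical ComplexConjugate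
open Cfsg Finset

universe u

variable {G : Type u} [Group G] [Fintype G] {p : ℕ} [hp : Fact p.Prime]

/-- An integral value at `g` is divisible by a divisor of the degree prime to the class size. -/
theorem dvd_value {χ : Cfsg.IrrCharacter G} {f : ℕ} (hf : (χ : G → ℂ) 1 = f) {g : G} {v : ℤ}
    (hv : (χ : G → ℂ) g = v) {M : ℕ} (hM : M ∣ f)
    (hcop : Nat.Coprime M (Subgroup.centralizer ({g} : Set G)).index) : (M : ℤ) ∣ v := by
  have hf0 : f ≠ 0 := by
    intro h
    obtain ⟨n, hn, hn'⟩ := Char.irr_one_pos χ.2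
    rw [hf, h] at hn'
    have : (0 : ℕ) = n := by exact_mod_cast hn'
    omega
  obtain ⟨z, hz⟩ := Char.exists_int_of_isIntegral_rat
    (q := ((Subgroup.centralizer ({g} : Set G)).index : ℚ) * (v : ℚ) / f) (by
      have := Char.irr_classSize_mul_div_isIntegral χ.2 g
      rw [hv, hf] at this
      push_cast
      exact this)
  rw [div_eq_iff (Nat.cast_ne_zero.2 hf0)] at hz
  have h1 : ((Subgroup.centralizer ({g} : Set G)).index : ℤ) * v = z * f := by exact_mod_cast hz
  refine Int.dvd_of_dvd_mul_right_of_gcd_one (b := ((Subgroup.centralizer ({g} : Set G)).index : ℤ))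
    (h1 ▸ (Int.natCast_dvd_natCast.2 hM).mul_left z) ?_
  rw [Int.gcd_natCast_natCast]
  exact hcop

variable {P : Sylow p G} {x : G} {q b g₀ e t d : ℕ} {ε : ℤ} {X Y : Finset (Cfsg.IrrCharacter G)}
  {sg : Cfsg.IrrCharacter G → ℤ} {dg : Cfsg.IrrCharacter G → ℕ}
  (D : Data P q b g₀ e t ε d X Y sg dg) (S : Setup P x e)

include D

theorem Data.one_le_g : 1 ≤ g₀ := by
  rcases Nat.eq_zero_or_pos g₀ with h | h
  · have := D.card; rw [h, mul_zero] at this; exact absurd this Nat.card_pos.ne'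
  · exact h

theorem Data.three_le_p : 3 ≤ p := by
  have := D.one_le_g
  have := D.small
  omega

theorem Data.not_dvd_one_elem : ¬ p ∣ orderOf (1 : G) := by rw [orderOf_one]; exact hp.out.not_dvd_one

theorem Data.not_dvd_involution {g : G} (hg : orderOf g = 2) : ¬ p ∣ orderOf g := by
  rw [hg]
  intro h
  have := Nat.le_of_dvd (by norm_num) h
  have := D.three_le_p
  omega

theorem Data.exists_mem : ∃ θ, θ ∈ Y := by
  have h := D.two_le_t
  rw [← D.cardY] at h
  exact Finset.card_pos.1 (by omega)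

theorem Data.eq_on_regular {θ θ' : Cfsg.IrrCharacter G} (hθ : θ ∈ Y) (hθ' : θ' ∈ Y) {g : G}
    (hg : ¬ p ∣ orderOf g) : (θ : G → ℂ) g = (θ' : G → ℂ) g := by
  have h := (D.rel θ hθ g hg).trans (D.rel θ' hθ' g hg).symm
  rcases D.cases with ⟨rfl, -⟩ | ⟨rfl, -⟩ <;> simpa using h

theorem Data.splitting (F : Cfsg.IrrCharacter G → ℂ) :
    ∑ χ, F χ = F (Char.trivialIrr G) + ∑ χ ∈ X, F χ + ∑ χ ∈ Y, F χ +
      ∑ χ ∈ (insert (Char.trivialIrr G) (X ∪ Y))ᶜ, F χ := by
  rw [← Finset.sum_add_sum_compl (insert (Char.trivialIrr G) (X ∪ Y)),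
    Finset.sum_insert (by rw [Finset.mem_union]; exact not_or.2 ⟨D.trivX, D.trivY⟩),
    Finset.sum_union D.disj]
  ring

include S

/-- The sum of the squares of the exceptional values on `P`. -/
theorem Data.sum_Y_sq {v : G} (hv : v ∈ (P : Subgroup G)) (hv1 : v ≠ 1) :
    ∑ θ ∈ Y, (θ : G → ℂ) v * conj ((θ : G → ℂ) v) = (p : ℂ) - e := by
  have h := Char.sum_irr_mul_conj v v
  rw [if_pos (IsConj.refl v), S.card_centralizer hv hv1, D.splitting,
    Finset.sum_congr rfl (fun χ hχ => by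
      rw [D.valX χ hχ v hv hv1]
      rcases (D.degX χ hχ).1 with h | h <;> rw [h] <;> simp :
      ∀ χ ∈ X, (χ : G → ℂ) v * conj ((χ : G → ℂ) v) = 1),
    Finset.sum_eq_zero (s := (insert (Char.trivialIrr G) (X ∪ Y))ᶜ) (fun χ hχ => by
      rw [Finset.mem_compl, Finset.mem_insert, Finset.mem_union] at hχ
      push Not at hχ
      rw [(D.valR χ hχ.1 hχ.2.1 hχ.2.2).2 v hv hv1, zero_mul])] at h
  have h1 : ((Char.trivialIrr G : Cfsg.IrrCharacter G) : G → ℂ) v = 1 := rfl
  have h2 : (X.card : ℂ) + 1 = e := by exact_mod_cast D.cardX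
  rw [h1, map_one, mul_one, Finset.sum_const, nsmul_eq_mul, mul_one] at h
  linear_combination h - h2

/-- The fixed dimension of `P` in the exceptional characters, in total. -/
theorem Data.sum_Y_P :
    ∑ θ ∈ Y, ∑ v : ↥(P : Subgroup G), (θ : G → ℂ) v = (t : ℂ) * d - ((p : ℂ) - 1) * ε := by
  rw [Finset.sum_comm, S.sum_P (f := fun g => ∑ θ ∈ Y, (θ : G → ℂ) g) (c := -(ε : ℂ))
    (fun v hv hv1 => D.valY v hv hv1),
    Finset.sum_congr rfl (fun θ hθ => by rw [D.deg θ, D.degY θ hθ] :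
      ∀ θ ∈ Y, (θ : G → ℂ) 1 = (d : ℂ)), Finset.sum_const, D.cardY, nsmul_eq_mul]
  ring

/-- On elements of order prime to `p` the exceptional characters are rational. -/
theorem Data.twist_eq {θ : Cfsg.IrrCharacter G} (hθ : θ ∈ Y) (hqd : ¬ q ∣ d) {g : G}
    (hg : ¬ p ∣ orderOf g) {j : ℕ} (hj : j.Coprime (Nat.card G)) :
    (θ : G → ℂ) (g ^ j) = (θ : G → ℂ) g := by
  set ψ : Cfsg.IrrCharacter G := ⟨fun g => (θ : G → ℂ) (g ^ j), OddChar.irr_twist θ.2 hj⟩ with hψ
  suffices hψY : ψ ∈ Y from D.eq_on_regular hψY hθ hg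
  have hdg : dg ψ = d := by
    have h1 : (θ : G → ℂ) ((1 : G) ^ j) = (dg ψ : ℂ) := D.deg ψ
    rw [one_pow, D.deg θ, D.degY θ hθ] at h1
    exact_mod_cast h1.symm
  have h2d := D.two_le_d
  have hdp : d < p := by
    have := Nat.le_of_dvd D.one_le_g D.d_dvd
    have := D.small
    omega
  have hT : ψ ≠ Char.trivialIrr G := by
    intro h
    have h1 := D.deg ψ
    rw [hdg, h] at h1
    have : (1 : ℕ) = d := by exact_mod_cast (show ((1 : ℕ) : ℂ) = d by rw [← h1]; exact Nat.cast_one)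
    omega
  by_contra hY
  by_cases hX : ψ ∈ X
  · exact hqd (hdg ▸ (D.degX ψ hX).2.2.1)
  · have h := (D.valR ψ hT hX hY).1
    rw [hdg] at h
    have := Nat.le_of_dvd (by omega) h
    omega

/-- An element of order `p` in `P` and the order of `G`. -/
theorem Data.card_pe {n : ℕ} (hn : Nat.card (Sylow p G) = 1 + n * p) :
    e * (1 + n * p) = q ^ b * g₀ := by
  have h := D.card
  rw [← card_sylow_mul_card_normalizer P, hn, card_normalizer S.cardP S.cent S.rel] at h
  refine Nat.eq_of_mul_eq_mul_left hp.out.pos ?_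
  rw [← mul_assoc p (q ^ b), ← h]
  ring

end Cfsg.Agent.SmallGroups.SelfCentPrime.Cofactor
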