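import Cfsg.Agent.SmallGroups.SelfCentPrime.Cubic
import Cfsg.Agent.SmallGroups.SelfCentPrime.Plus
import Cfsg.Agent.SmallGroups.SelfCentPrime.MinusCases

/-!
# Groups of order `p * q ^ b * g₀` with `g₀ < p - 1`: the block data

The exceptional characters have degree dividing `g₀`, the others degrees divisible by `q`.
-/

set_option linter.style.haveILetI false
set_option linter.unusedSectionVars false

noncomputable section

namespace Cfsg.Agent.SmallGroups.SelfCentPrime.Cofactor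

open scoped Classical ComplexConjugate
open Cfsg Finset

universe u

variable {G : Type u} [Group G] [Fintype G] {p : ℕ} [hp : Fact p.Prime]

/-- The irreducible characters of a group of order `p * q ^ b * g₀` with small cofactor `g₀`. -/
structure Data (P : Sylow p G) (q b g₀ e t : ℕ) (ε : ℤ) (d : ℕ) (X Y : Finset (Cfsg.IrrCharacter G))
    (sg : Cfsg.IrrCharacter G → ℤ) (dg : Cfsg.IrrCharacter G → ℕ) : Prop where
  card : Nat.card G = p * q ^ b * g₀
  qprime : q.Prime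
  qne : p ≠ q
  small : g₀ < p - 1
  disj : Disjoint X Y
  trivX : Char.trivialIrr G ∉ X
  trivY : Char.trivialIrr G ∉ Y
  deg : ∀ χ : Cfsg.IrrCharacter G, (χ : G → ℂ) 1 = (dg χ : ℂ)
  degY : ∀ χ ∈ Y, dg χ = d
  degX : ∀ χ ∈ X, (sg χ = 1 ∨ sg χ = -1) ∧ p - 1 ≤ dg χ ∧ q ∣ dg χ ∧ (p : ℤ) ∣ (dg χ : ℤ) - sg χ
  valX : ∀ χ ∈ X, ∀ v ∈ (P : Subgroup G), v ≠ 1 → (χ : G → ℂ) v = (sg χ : ℂ)
  valY : ∀ v ∈ (P : Subgroup G), v ≠ 1 → ∑ χ ∈ Y, (χ : G → ℂ) v = -(ε : ℂ)
  valR : ∀ χ : Cfsg.IrrCharacter G, χ ≠ Char.trivialIrr G → χ ∉ X → χ ∉ Y →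
    p ∣ dg χ ∧ ∀ v ∈ (P : Subgroup G), v ≠ 1 → (χ : G → ℂ) v = 0
  rel : ∀ θ ∈ Y, ∀ g : G, ¬ p ∣ orderOf g →
    (ε : ℂ) * (θ : G → ℂ) g = 1 + ∑ χ ∈ X, (sg χ : ℂ) * (χ : G → ℂ) g
  cardX : X.card + 1 = e
  cardY : Y.card = t
  te : t * e = p - 1
  two_le_t : 2 ≤ t
  two_le_e : 2 ≤ e
  two_le_d : 2 ≤ d
  d_dvd : d ∣ g₀
  cases : (ε = 1 ∧ d = e) ∨ (ε = -1 ∧ d + e = p)

/-- The data exist. -/
theorem exists_data [IsSimpleGroup G] (hG : ¬ IsMulCommutative G) (P : Sylow p G) (hP : Nat.card P = p)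
    {q b g₀ : ℕ} (hq : q.Prime) (hpq : p ≠ q) (hcard : Nat.card G = p * q ^ b * g₀) (hg : g₀ < p - 1) :
    ∃ (x : G) (e : ℕ), Setup P x e ∧ ∃ (t : ℕ) (ε : ℤ) (d : ℕ) (X Y : Finset (Cfsg.IrrCharacter G))
      (sg : Cfsg.IrrCharacter G → ℤ) (dg : Cfsg.IrrCharacter G → ℕ),
      Data P q b g₀ e t ε d X Y sg dg := by
  classical
  obtain ⟨M, hM⟩ := BlkChar.exists_isPModular p hp.out
  obtain ⟨e, he⟩ : ∃ e, (Subgroup.centralizer ((P : Subgroup G) : Set G)).relIndex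
    (Subgroup.normalizer ((P : Subgroup G) : Set G)) = e := ⟨_, rfl⟩
  obtain ⟨X, Y, sgn, ε, hdisj, hB, hXc, hYc, hTX, hTs, hε, hXd, hYd, hYsum, hrel⟩ :=
    OrderP.exists_block_data hM P hP e he
  have hre := relIndex_centralizer_prime hG P hP
  rw [he] at hre
  obtain ⟨t, ht⟩ : ∃ t, t * e = p - 1 := ⟨(p - 1) / e, Nat.div_mul_cancel hre.1⟩
  have hg1 : 1 ≤ g₀ := by
    rcases Nat.eq_zero_or_pos g₀ with h | h
    · rw [h, mul_zero] at hcard; exact absurd hcard Nat.card_pos.ne'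
    · exact h
  have hp3 : 3 ≤ p := by omega
  have he2 : 2 ≤ e := by
    rcases Nat.eq_zero_or_pos e with h | h
    · subst h; omega
    · have := hre.2; omega
  choose dg hdg0 hdg hdgdvd using fun χ : Cfsg.IrrCharacter G => Char.irr_degree_dvd_card χ.2
  have hcd : ∀ χ : Cfsg.IrrCharacter G, Cfsg.charDegree (χ : G → ℂ) = dg χ :=
    fun χ => Char.charDegree_of_eq (hdg χ)
  have hdgT : dg (Char.trivialIrr G) = 1 := by
    have h := (hdg (Char.trivialIrr G)).symm.trans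
      (show ((Char.trivialIrr G : Cfsg.IrrCharacter G) : G → ℂ) 1 = 1 from rfl)
    exact_mod_cast h
  have hone : ¬ p ∣ orderOf (1 : G) := by rw [orderOf_one]; exact hp.out.not_dvd_one
  have hYt : Y.card = t := by rw [hYc, ← ht, Nat.mul_div_cancel _ (by omega)]
  set X' := X.erase (Char.trivialIrr G)
  have hrel' : ∀ θ ∈ Y, ∀ g : G, ¬ p ∣ orderOf g →
      (ε : ℂ) * (θ : G → ℂ) g = 1 + ∑ χ ∈ X', (sgn χ : ℂ) * (χ : G → ℂ) g := by
    intro θ hθ g hg'
    rw [hrel θ hθ g hg', ← Finset.add_sum_erase _ _ hTX, hTs]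
    have : ((Char.trivialIrr G : Cfsg.IrrCharacter G) : G → ℂ) g = 1 := rfl
    rw [this]; simp [X']
  have hnd : ∀ (a : ℕ) (s : ℤ), (p : ℤ) ∣ (a : ℤ) - s → ¬ (p : ℤ) ∣ s → ¬ p ∣ a := by
    intro a s h hs hpa
    have : (p : ℤ) ∣ (a : ℤ) := by exact_mod_cast hpa
    exact hs (by simpa using dvd_sub this h)
  have hdvd0 : ∀ χ : Cfsg.IrrCharacter G, ¬ p ∣ dg χ → ¬ q ∣ dg χ → dg χ ∣ g₀ := by
    intro χ hχp hχq
    have h : dg χ ∣ p * (q ^ b * g₀) := by rw [← mul_assoc, ← hcard]; exact hdgdvd χ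
    have h2 := ((hp.out.coprime_iff_not_dvd).2 hχp).symm.dvd_of_dvd_mul_left h
    exact (((hq.coprime_iff_not_dvd).2 hχq).symm.pow_right b).dvd_of_dvd_mul_left h2
  have hXprop : ∀ χ ∈ X', (sgn χ = 1 ∨ sgn χ = -1) ∧ p - 1 ≤ dg χ ∧ q ∣ dg χ ∧
      (p : ℤ) ∣ (dg χ : ℤ) - sgn χ := by
    intro χ hχ
    obtain ⟨hne, hχX⟩ := Finset.mem_erase.1 hχ
    obtain ⟨hs, hd, -⟩ := hXd χ hχX
    rw [hcd] at hd
    have h1 : 1 < dg χ := Exceptional.one_lt_degree hp.out hG hne (hdg χ)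
    have hbig : p - 1 ≤ dg χ := by
      rcases hs with h | h <;> rw [h] at hd
      · have := Int.le_of_dvd (by omega) hd; omega
      · have := Int.le_of_dvd (by omega) hd; omega
    refine ⟨hs, hbig, ?_, hd⟩
    by_contra hq'
    have hns : ¬ (p : ℤ) ∣ sgn χ := by
      intro h
      have hp' := Int.natAbs_dvd_natAbs.2 h
      rcases hs with h' | h' <;> rw [h'] at hp' <;>
        exact hp.out.one_lt.ne' (Nat.dvd_one.1 (by simpa using hp'))
    have := Nat.le_of_dvd (by omega) (hdvd0 χ (hnd _ _ hd hns) hq')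
    omega
  obtain ⟨θ₀, hθ₀⟩ : Y.Nonempty := by
    rw [← Finset.card_pos, hYt]
    rcases Nat.eq_zero_or_pos t with h | h
    · subst h; omega
    · exact h
  have hYdeg : ∀ θ ∈ Y, dg θ = dg θ₀ := by
    intro θ hθ
    have h := (hrel' θ hθ 1 hone).trans (hrel' θ₀ hθ₀ 1 hone).symm
    rw [hdg θ, hdg θ₀] at h
    rcases hε with rfl | rfl <;> simpa using h
  have hθT : θ₀ ≠ Char.trivialIrr G := fun h => Finset.disjoint_left.1 hdisj hTX (h ▸ hθ₀)
  have hθ1 : 1 < dg θ₀ := Exceptional.one_lt_degree hp.out hG hθT (hdg θ₀)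
  have hnq : ¬ q ∣ dg θ₀ := by
    intro h
    have h1 := hrel' θ₀ hθ₀ 1 hone
    simp only [hdg] at h1
    have h2 : ε * (dg θ₀ : ℤ) = 1 + ∑ χ ∈ X', sgn χ * (dg χ : ℤ) := by exact_mod_cast h1
    have h3 : (q : ℤ) ∣ 1 := by
      have ha : (q : ℤ) ∣ ∑ χ ∈ X', sgn χ * (dg χ : ℤ) :=
        Finset.dvd_sum fun χ hχ => (Int.natCast_dvd_natCast.2 (hXprop χ hχ).2.2.1).mul_left _
      have hb : (q : ℤ) ∣ ε * (dg θ₀ : ℤ) := (Int.natCast_dvd_natCast.2 h).mul_left _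
      rw [h2] at hb
      simpa using dvd_sub hb ha
    exact hq.ne_one (Nat.dvd_one.1 (by exact_mod_cast h3))
  have hθd : (p : ℤ) ∣ (dg θ₀ : ℤ) - ε * e := hcd θ₀ ▸ hYd θ₀ hθ₀
  have hele : e ≤ p - 1 := Nat.le_of_dvd (by omega) hre.1
  have hnp : ¬ (p : ℤ) ∣ ε * e := by
    intro h
    have h' := Int.natAbs_dvd_natAbs.2 h
    have : (ε * e).natAbs = e := by rcases hε with rfl | rfl <;> simp
    rw [this, Int.natAbs_natCast] at h'
    have h2 := Nat.le_of_dvd (by omega) h'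
    omega
  have hdd : dg θ₀ ∣ g₀ := hdvd0 θ₀ (hnd _ _ hθd hnp) hnq
  have hdle : dg θ₀ ≤ g₀ := Nat.le_of_dvd hg1 hdd
  have hC : Subgroup.centralizer ((P : Subgroup G) : Set G) = (P : Subgroup G) := by
    haveI : IsMulCommutative ↥(P : Subgroup G) := isMulCommutative_of_prime_card (by rw [hP]; exact hp.out)
    refine le_antisymm (fun v hv => ?_) (P : Subgroup G).le_centralizer
    obtain ⟨c, hc⟩ : p ∣ Nat.card ↥(Subgroup.centralizer ((P : Subgroup G) : Set G)) :=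
      (dvd_of_eq hP.symm).trans (Subgroup.card_dvd_of_le (P : Subgroup G).le_centralizer)
    by_cases hvp : p ∣ orderOf v
    · -- the regular part is trivial
      have hpc : ¬ p ∣ c := by
        rintro ⟨k, rfl⟩
        have h2 : p * p ∣ Nat.card G :=
          (Dvd.intro k (by rw [hc]; ring)).trans (Subgroup.card_subgroup_dvd_card
            (Subgroup.centralizer ((P : Subgroup G) : Set G)))
        rw [← (P : Subgroup G).card_mul_index, hP] at h2
        exact P.not_dvd_index (Nat.dvd_of_mul_dvd_mul_left hp.out.pos h2)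
      obtain ⟨k, hk⟩ := hvp
      have ho : orderOf v ∣ p * c := hc ▸ Subgroup.orderOf_dvd_natCard _ hv
      rw [hk] at ho
      have hkc : k ∣ c := Nat.dvd_of_mul_dvd_mul_left hp.out.pos ho
      have hreg : ¬ p ∣ orderOf (v ^ p) := fun h => hpc ((h.trans (orderOf_dvd_of_pow_eq_one (by
        rw [← pow_mul, ← hk, pow_orderOf_eq_one]))).trans hkc)
      have h1 : v ^ p = 1 := eq_one_of_small_degree hG P hP hM ((hB θ₀).2 (.inr hθ₀)) (hdg θ₀)
        (by omega) hθ1 (pow_mem hv p) hreg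
      have hvo : orderOf v ∣ p := orderOf_dvd_of_pow_eq_one h1
      have hpg : IsPGroup p ↥((P : Subgroup G) ⊔ Subgroup.zpowers v) := by
        refine P.2.to_sup_of_normal_left' (IsPGroup.of_card (n := 1) ?_) ?_
        · rw [Nat.card_zpowers, pow_one, Nat.dvd_antisymm hvo (hk ▸ dvd_mul_right p k)]
        · exact Subgroup.zpowers_le.2 (Subgroup.centralizer_le_normalizer _ hv)
      rw [← P.3 hpg le_sup_left]
      exact Subgroup.mem_sup_right (Subgroup.mem_zpowers v)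
    · rw [eq_one_of_small_degree hG P hP hM ((hB θ₀).2 (.inr hθ₀)) (hdg θ₀) (by omega) hθ1 hv hvp]
      exact one_mem _
  obtain ⟨-, x, S⟩ := exists_setup hP hC he
  have hcases : (ε = 1 ∧ dg θ₀ = e) ∨ (ε = -1 ∧ dg θ₀ + e = p) := by
    obtain ⟨k, hk⟩ := hθd
    have hk1 : k < 2 := by
      by_contra hh
      have : (p : ℤ) * 2 ≤ p * k := mul_le_mul_of_nonneg_left (by omega) (Int.natCast_nonneg _)
      rcases hε with rfl | rfl <;> omega
    have hk2 : -1 < k := by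
      by_contra hh
      have : (p : ℤ) * k ≤ p * (-1) := mul_le_mul_of_nonneg_left (by omega) (Int.natCast_nonneg _)
      rcases hε with rfl | rfl <;> omega
    obtain rfl | rfl : k = 0 ∨ k = 1 := by omega
    · rcases hε with rfl | rfl
      · exact .inl ⟨rfl, by omega⟩
      · omega
    · rcases hε with rfl | rfl
      · omega
      · exact .inr ⟨rfl, by omega⟩
  have ht2 : 2 ≤ t := by
    by_contra h
    obtain rfl : t = 1 := by
      rcases Nat.eq_zero_or_pos t with h' | h'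
      · subst h'; omega
      · omega
    rcases hcases with ⟨-, h'⟩ | ⟨-, h'⟩ <;> omega
  have hc : Nat.card ↥(Subgroup.centralizer ((P : Subgroup G) : Set G)) = p * 1 := by
    rw [hC, mul_one]; exact hP
  have hvanish : ∀ χ : Cfsg.IrrCharacter G, χ ∉ Cfsg.principalBlock M G →
      ∀ v ∈ (P : Subgroup G), v ≠ 1 → (χ : G → ℂ) v = 0 := by
    intro χ hχ v hv hv1
    have h := OrderP.sum_section_eq_zero P hP hv hv1 hc hM hχ
    have hsec : OrderP.sectionSet P v = {v} := by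
      obtain ⟨w, hw⟩ := Finset.card_eq_one.1 (OrderP.card_sectionSet P hP hv hv1 hc)
      have : v ∈ OrderP.sectionSet P v := Finset.mem_image.2 ⟨1, by
        simp only [Finset.mem_filter, Finset.mem_univ, true_and]; exact ⟨one_mem _, hone⟩, mul_one v⟩
      rw [hw] at this ⊢
      rw [Finset.mem_singleton.1 this]
    rwa [hsec, Finset.sum_singleton] at h
  refine ⟨x, e, S, t, ε, dg θ₀, X', Y, sgn, dg, hcard, hq, hpq, hg, ?_, Finset.notMem_erase _ _,
    fun h => Finset.disjoint_left.1 hdisj hTX h, hdg, hYdeg, hXprop, ?_, hYsum, ?_, hrel', ?_, hYt, ht,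
    ht2, he2, hθ1, hdd, hcases⟩
  · exact hdisj.mono_left (Finset.erase_subset _ _)
  · intro χ hχ v hv hv1
    exact (hXd χ (Finset.mem_of_mem_erase hχ)).2.2 v hv hv1
  · intro χ hχT hχX hχY
    have hnB : χ ∉ Cfsg.principalBlock M G := fun h => ((hB χ).1 h).elim
      (fun h' => hχX (Finset.mem_erase.2 ⟨hχT, h'⟩)) hχY
    refine ⟨?_, hvanish χ hnB⟩
    obtain ⟨m, a, hm, -, -, -⟩ := S.exists_fixed_decomp (Char.isCharacter_of_irr χ.2)
    rw [S.sum_P (fun v hv hv1 => hvanish χ hnB v hv hv1), hdg χ] at hm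
    have : ((dg χ : ℕ) : ℂ) = ((m * p : ℕ) : ℂ) := by push_cast; linear_combination -hm
    exact ⟨m, by rw [mul_comm]; exact_mod_cast this⟩
  · rw [Finset.card_erase_of_mem hTX, hXc]; omega

end Cfsg.Agent.SmallGroups.SelfCentPrime.Cofactor
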