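import Cfsg.Agent.SmallGroups.SelfCentPrime.Cofactor.Plus
import Cfsg.Agent.Char.DefectZero
import Cfsg.Agent.Invol.BaerSuzuki
import Cfsg.Agent.Gagola.Group

/-!
# The exceptional degree `p - e`: basic facts and the case `e = 2`
-/

set_option linter.style.haveILetI false
set_option linter.unusedSectionVars false

noncomputable section

namespace Cfsg.Agent.SmallGroups.SelfCentPrime.Cofactor

open scoped Classical ComplexConjugate
open Cfsg Finset

universe u

variable {G : Type u} [Group G] [Fintype G] [IsSimpleGroup G] {p : ℕ} [hp : Fact p.Prime]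
variable {P : Sylow p G} {x : G} {q b g₀ e t d : ℕ} {X Y : Finset (Cfsg.IrrCharacter G)}
  {sg : Cfsg.IrrCharacter G → ℤ} {dg : Cfsg.IrrCharacter G → ℕ}
  (hG : ¬ IsMulCommutative G) (D : Data P q b g₀ e t (-1) d X Y sg dg) (S : Setup P x e)

include D in
theorem Data.d_add_e : d + e = p := by
  rcases D.cases with ⟨h, -⟩ | ⟨-, h⟩
  · norm_num at h
  · exact h

include D in
theorem Data.e_le : 2 * e ≤ p - 1 := by
  rw [← D.te]
  exact Nat.mul_le_mul_right e D.two_le_t

include D in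
theorem Data.minus_g : g₀ = d := by
  obtain ⟨c, hc⟩ := D.d_dvd
  have := D.small
  have := D.d_add_e
  have := D.e_le
  rcases Nat.lt_or_ge c 2 with h | h
  · interval_cases c
    · have := D.one_le_g; omega
    · omega
  · have := Nat.mul_le_mul_left d h
    omega

include D S in
theorem Data.coprime_e_d : Nat.Coprime e d := by
  have h1 : Nat.Coprime e p := ((hp.out.coprime_iff_not_dvd).2 fun h => by
    have := Nat.le_of_dvd S.e_pos h
    have := D.e_le
    have := hp.out.two_le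
    omega).symm
  rw [← D.d_add_e] at h1
  exact Nat.coprime_add_self_right.1 h1

include D S in
/-- The orders and parities. -/
theorem Data.minus_arith : q = 2 ∧ Odd d ∧ ∃ i, 1 ≤ i ∧ i ≤ b ∧ e = 2 ^ i := by
  have hde := D.d_add_e
  have he2 := D.two_le_e
  obtain ⟨n, hn'⟩ : p ∣ Nat.card (Sylow p G) - 1 :=
    (Nat.modEq_iff_dvd' Nat.card_pos).1 (card_sylow_modEq_one p G).symm
  have hn : Nat.card (Sylow p G) = 1 + n * p := by
    have := Nat.card_pos (α := Sylow p G); rw [mul_comm]; omega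
  have hA := D.card_pe S hn
  rw [D.minus_g] at hA
  have heq : e ∣ q ^ b := (D.coprime_e_d S).dvd_of_dvd_mul_right (hA ▸ dvd_mul_right e _)
  obtain ⟨i, hib, hi⟩ := (Nat.dvd_prime_pow D.qprime).1 heq
  have hi0 : i ≠ 0 := by rintro rfl; rw [pow_zero] at hi; omega
  have hqe : q ∣ e := hi ▸ dvd_pow_self q hi0
  have hq1 : (q : ℤ) ∣ (d : ℤ) + 1 := by
    obtain ⟨θ, hθ⟩ := D.exists_mem
    have h := D.rel θ hθ 1 D.not_dvd_one_elem
    simp only [D.deg] at h
    rw [D.degY θ hθ] at h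
    have h2 : ((-1 : ℤ) * (d : ℤ)) = 1 + ∑ χ ∈ X, sg χ * (dg χ : ℤ) := by exact_mod_cast h
    have ha : (q : ℤ) ∣ ∑ χ ∈ X, sg χ * (dg χ : ℤ) :=
      Finset.dvd_sum fun χ hχ => (Int.natCast_dvd_natCast.2 (D.degX χ hχ).2.2.1).mul_left _
    rw [show (d : ℤ) + 1 = -∑ χ ∈ X, sg χ * (dg χ : ℤ) by linarith]
    exact ha.neg_right
  obtain ⟨t', ht'⟩ : ∃ t', t = t' + 1 := ⟨t - 1, by have := D.two_le_t; omega⟩
  have hd1 : d = t' * e + 1 := by
    have := D.te
    have hp2 := hp.out.two_le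
    rw [ht', add_mul, one_mul] at this
    omega
  have hq2 : q = 2 := by
    have h1 : (q : ℤ) ∣ (d : ℤ) - 1 := by
      rw [hd1]
      push_cast
      rw [add_sub_cancel_right]
      exact (Int.natCast_dvd_natCast.2 hqe).mul_left _
    have h2 := dvd_sub hq1 h1
    rw [show (d : ℤ) + 1 - ((d : ℤ) - 1) = 2 by ring] at h2
    exact (Nat.prime_dvd_prime_iff_eq D.qprime Nat.prime_two).1 (by exact_mod_cast h2)
  refine ⟨hq2, ?_, i, Nat.pos_of_ne_zero hi0, hib, hq2 ▸ hi⟩
  rw [hd1]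
  exact (((even_iff_two_dvd).2 (hq2 ▸ hqe)).mul_left t').add_one

include D S in
/-- An exceptional character has a one-dimensional fixed space. -/
theorem Data.minus_theta : ∃ μ₀ : Cfsg.IrrCharacter ↥(Subgroup.zpowers x), ∀ θ ∈ Y,
    ∑ v : ↥(P : Subgroup G), (θ : G → ℂ) v = (p : ℂ) ∧ ∀ y : ↥(Subgroup.zpowers x), y ≠ 1 →
      (θ : G → ℂ) y = (μ₀ : ↥(Subgroup.zpowers x) → ℂ) y := by
  choose m a hm hma hmy hmμ using fun χ : Cfsg.IrrCharacter G =>
    S.exists_fixed_decomp (Char.isCharacter_of_irr χ.2)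
  have hcomm : ∀ u v : ↥(Subgroup.zpowers x), u * v = v * u :=
    fun u v => (inferInstance : IsMulCommutative ↥(Subgroup.zpowers x)).is_comm.comm u v
  have hE : Nat.card ↥(Subgroup.zpowers x) = e := by rw [Nat.card_zpowers, S.order]
  have hm1 : ∀ θ ∈ Y, 1 ≤ m θ := by
    intro θ hθ
    by_contra h
    have h0 : m θ = 0 := by omega
    obtain ⟨k, hk⟩ := Char.isCharacter_classInner_nat
      (Char.isCharacter_restrict (Char.isCharacter_of_irr θ.2) (Subgroup.zpowers x))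
      (Char.trivialIrr ↥(Subgroup.zpowers x))
    rw [Cfsg.classInner, inv_mul_eq_iff_eq_mul₀ Char.card_ne_zero_complex, hE,
      ← Finset.add_sum_erase _ _ (Finset.mem_univ (1 : ↥(Subgroup.zpowers x)))] at hk
    simp only [trivialIrr_apply, map_one, mul_one, OneMemClass.coe_one, Function.comp_apply] at hk
    have h2 := hmμ θ (Char.trivialIrr ↥(Subgroup.zpowers x))
    simp only [trivialIrr_apply, map_one, mul_one] at h2
    have ha0 : a θ (Char.trivialIrr ↥(Subgroup.zpowers x)) = 0 := Nat.eq_zero_of_le_zero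
      (h0 ▸ hma θ ▸ Finset.single_le_sum (fun _ _ => Nat.zero_le _) (Finset.mem_univ _))
    rw [ha0, h0, Nat.cast_zero, zero_mul, zero_add, eq_comm] at h2
    rw [h2, add_zero, D.deg θ, D.degY θ hθ] at hk
    have h3 : d = e * k := by exact_mod_cast hk
    have h4 := (D.coprime_e_d S).eq_one_of_dvd ⟨k, h3⟩
    have := D.two_le_e
    omega
  have htot : ∑ θ ∈ Y, m θ = t := by
    refine Nat.eq_of_mul_eq_mul_right hp.out.pos (Nat.cast_injective (R := ℂ) ?_)
    push_cast
    rw [Finset.sum_mul, Finset.sum_congr rfl (fun φ _ => hm φ :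
      ∀ φ ∈ Y, (m φ : ℂ) * p = ∑ v : ↥(P : Subgroup G), (φ : G → ℂ) v), D.sum_Y_P S]
    have hde : (d : ℂ) + e = p := by exact_mod_cast D.d_add_e
    have hte : (t : ℂ) * e + 1 = p := by
      exact_mod_cast (show t * e + 1 = p by have := D.te; have := hp.out.one_le; omega)
    push_cast
    linear_combination (t : ℂ) * hde - hte
  have hmeq : ∀ θ ∈ Y, m θ = 1 := by
    have h := (Finset.sum_eq_sum_iff_of_le (f := fun _ => 1) (g := m) hm1).1 (by
      rw [htot, Finset.sum_const, D.cardY, smul_eq_mul, mul_one])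
    exact fun θ hθ => (h θ hθ).symm
  obtain ⟨θ₀, hθ₀⟩ := D.exists_mem
  obtain ⟨μ₀, -, hμ₀⟩ := Finset.exists_ne_zero_of_sum_ne_zero (f := a θ₀) (s := Finset.univ)
    (by rw [hma θ₀, hmeq θ₀ hθ₀]; norm_num)
  refine ⟨μ₀, fun θ hθ => ⟨by rw [← hm θ, hmeq θ hθ, Nat.cast_one, one_mul], fun y hy => ?_⟩⟩
  rw [show (θ : G → ℂ) y = (θ₀ : G → ℂ) y from
    D.eq_on_regular hθ hθ₀ (S.not_dvd_orderOf y.2), hmy θ₀ y hy]
  have h1 : ∀ μ, μ ≠ μ₀ → a θ₀ μ = 0 := by
    intro μ hne
    have h := Finset.sum_le_univ_sum_of_nonneg (f := a θ₀) (fun _ => Nat.zero_le _) (s := {μ, μ₀})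
    rw [hma θ₀, hmeq θ₀ hθ₀, Finset.sum_pair hne] at h
    omega
  have h2 : a θ₀ μ₀ = 1 := by
    have h := hma θ₀
    rw [hmeq θ₀ hθ₀, Finset.sum_eq_single μ₀ (fun μ _ h => h1 μ h) (fun h => absurd (Finset.mem_univ _) h)] at h
    exact h
  rw [Finset.sum_eq_single μ₀ (fun μ _ h => by rw [h1 μ h, Nat.cast_zero, zero_mul])
    (fun h => absurd (Finset.mem_univ _) h), h2, Nat.cast_one, one_mul]

include D S in
/-- The coefficient at an element of order `p` for an involution. -/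
theorem Data.coeff {z v : G} (hz : z * z = 1) (hzr : ¬ p ∣ orderOf z) (hv : v ∈ (P : Subgroup G))
    (hv1 : v ≠ 1) {θ : Cfsg.IrrCharacter G} (hθ : θ ∈ Y) :
    (Nat.card G : ℂ) * (1 + ∑ χ ∈ X, (sg χ : ℂ) * (χ : G → ℂ) z ^ 2 / (dg χ : ℂ) +
        (θ : G → ℂ) z ^ 2 / (d : ℂ)) =
      (Nat.card ↥(Subgroup.centralizer ({z} : Set G)) : ℂ) ^ 2 * (conjPairs z v).card := by
  rw [← sum_sq_mul_conj hz v, D.splitting, trivialIrr_apply, trivialIrr_apply, trivialIrr_apply, one_pow,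
    map_one, mul_one, div_one,
    Finset.sum_eq_zero (s := (insert (Char.trivialIrr G) (X ∪ Y))ᶜ) (fun χ hχ => by
      rw [Finset.mem_compl, Finset.mem_insert, Finset.mem_union] at hχ
      push Not at hχ
      rw [(D.valR χ hχ.1 hχ.2.1 hχ.2.2).2 v hv hv1, map_zero, mul_zero, zero_div]),
    Finset.sum_congr rfl (fun χ hχ => by rw [D.valX χ hχ v hv hv1, map_intCast, D.deg χ]; ring :
      ∀ χ ∈ X, (χ : G → ℂ) z ^ 2 * conj ((χ : G → ℂ) v) / (χ : G → ℂ) 1 =
        (sg χ : ℂ) * (χ : G → ℂ) z ^ 2 / (dg χ : ℂ)),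
    Finset.sum_congr rfl (fun φ hφ => by
      rw [D.deg φ, D.degY φ hφ, D.eq_on_regular hφ hθ hzr]; ring :
      ∀ φ ∈ Y, (φ : G → ℂ) z ^ 2 * conj ((φ : G → ℂ) v) / (φ : G → ℂ) 1 =
        (θ : G → ℂ) z ^ 2 / (d : ℂ) * conj ((φ : G → ℂ) v)),
    ← Finset.mul_sum, ← map_sum, D.valY v hv hv1, add_zero]
  simp

include hG D S in
/-- The case `e = 2`. -/
theorem Data.minus_two (he : e = 2) :
    ∃ n, Nat.card (Sylow p G) = 1 + n * p ∧ 2 * n < p + 3 ∧ ∃ k, p = 2 ^ k + 1 := by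
  obtain ⟨rfl, hd, -, -, -, -⟩ := D.minus_arith S
  subst he
  have hde := D.d_add_e
  have hp3 := D.three_le_p
  have hg0 := D.minus_g
  subst g₀
  have hd2 := D.two_le_d
  -- the single character
  obtain ⟨χ, hX⟩ : ∃ χ, X = {χ} := Finset.card_eq_one.1 (by have := D.cardX; omega)
  have hχ : χ ∈ X := by rw [hX]; exact Finset.mem_singleton_self χ
  obtain ⟨θ, hθ⟩ := D.exists_mem
  obtain ⟨hs, hbig, -, -⟩ := D.degX χ hχ
  have hrel : ∀ g : G, ¬ p ∣ orderOf g → -(θ : G → ℂ) g = 1 + (sg χ : ℂ) * (χ : G → ℂ) g := by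
    intro g hg
    have h := D.rel θ hθ g hg
    rw [hX, Finset.sum_singleton] at h
    push_cast at h
    linear_combination h
  have hsχ : sg χ = -1 ∧ dg χ = p - 1 := by
    have h := hrel 1 D.not_dvd_one_elem
    rw [D.deg θ, D.degY θ hθ, D.deg χ] at h
    have h2 : -(d : ℤ) = 1 + sg χ * (dg χ : ℤ) := by exact_mod_cast h
    rcases hs with hs | hs <;> rw [hs] at h2
    · omega
    · exact ⟨hs, by omega⟩
  obtain ⟨hs, hf⟩ := hsχ
  have hcard := D.card
  obtain ⟨j, hjb, hj⟩ : ∃ j, j ≤ b ∧ p - 1 = 2 ^ j := by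
    obtain ⟨f, -, hf', hfd⟩ := Char.irr_degree_dvd_card χ.2
    rw [D.deg χ, hf] at hf'
    obtain rfl : f = p - 1 := by exact_mod_cast hf'.symm
    rw [hcard] at hfd
    have h1 : Nat.Coprime (p - 1) p := by
      rw [Nat.coprime_self_sub_left hp.out.one_le]
      exact Nat.coprime_one_left p
    have h2 : Nat.Coprime (p - 1) d := by
      rw [show p - 1 = d + 1 by omega]
      simp
    exact (Nat.dvd_prime_pow Nat.prime_two).1 (h1.dvd_of_dvd_mul_left (h2.dvd_of_dvd_mul_right hfd))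
  have hxo := S.order
  have hx1 : x ≠ 1 := fun h => by rw [h, orderOf_one] at hxo; omega
  have hxx : x * x = 1 := by rw [← pow_two, ← hxo]; exact pow_orderOf_eq_one x
  have hxr : ¬ p ∣ orderOf x := D.not_dvd_involution hxo
  have hχx : (χ : G → ℂ) x = 0 := by
    obtain ⟨m, a, hm, hma, hmy, -⟩ := S.exists_fixed_decomp (Char.isCharacter_of_irr χ.2)
    rw [S.sum_P (f := (χ : G → ℂ)) (D.valX χ hχ), D.deg χ, hs, hf, Nat.cast_sub hp.out.one_le] at hm
    have hm0 : m = 0 := by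
      have : ((m * p : ℕ) : ℂ) = ((0 : ℕ) : ℂ) := by push_cast; push_cast at hm; linear_combination hm
      simpa [hp.out.ne_zero] using Nat.cast_injective this
    rw [show (χ : G → ℂ) x = _ from hmy ⟨x, Subgroup.mem_zpowers x⟩ fun h => hx1 (congrArg Subtype.val h)]
    refine Finset.sum_eq_zero fun μ _ => ?_
    have hle := Finset.single_le_sum (f := a) (fun _ _ => Nat.zero_le _) (Finset.mem_univ μ)
    rw [hma, hm0] at hle
    rw [Nat.eq_zero_of_le_zero hle, Nat.cast_zero, zero_mul]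
  obtain ⟨v, hvo, hvP'⟩ := Brauer.OrderP.exists_gen P S.cardP
  have hvP : v ∈ (P : Subgroup G) := hvP' ▸ Subgroup.mem_zpowers v
  have hv1 : v ≠ 1 := fun h => by rw [h, orderOf_one] at hvo; exact hp.out.ne_one hvo.symm
  have hxi : x⁻¹ = x := inv_eq_of_mul_eq_one_right hxx
  have hxinv : x * v * x = v⁻¹ := by
    have hmem : x * v * x ∈ (P : Subgroup G) := by
      have := (Subgroup.mem_normalizer_iff.1 S.mem v).1 hvP
      rwa [hxi] at this
    have hc : v * (x * v * x) = (x * v * x) * v := by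
      exact congrArg Subtype.val ((isMulCommutative_of_prime_card
        (show (Nat.card ↥(P : Subgroup G)).Prime by rw [S.cardP]; exact hp.out)).is_comm.comm
          (⟨v, hvP⟩ : ↥(P : Subgroup G)) ⟨_, hmem⟩)
    refine eq_inv_of_mul_eq_one_right (S.eq_one_of_commute (Subgroup.mem_zpowers x) hx1 (mul_mem hvP hmem) ?_)
    calc x * (v * (x * v * x)) = x * v * x * v * x := by group
      _ = (v * (x * v * x)) * x := by rw [hc]
  obtain ⟨n, hn'⟩ : p ∣ Nat.card (Sylow p G) - 1 :=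
    (Nat.modEq_iff_dvd' Nat.card_pos).1 (card_sylow_modEq_one p G).symm
  have hn : Nat.card (Sylow p G) = 1 + n * p := by
    have := Nat.card_pos (α := Sylow p G); rw [mul_comm]; omega
  have hA := D.card_pe S hn
  have hb0 : 0 < b := by
    rcases Nat.eq_zero_or_pos b with h | h
    · subst h
      obtain ⟨c, hc⟩ := hd
      rw [pow_zero, one_mul] at hA
      omega
    · exact h
  obtain ⟨z, hz, hzC⟩ := exists_involution_dvd_centralizer (G := G) hb0 ⟨p * d, by rw [hcard]; ring⟩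
  have hzz : z * z = 1 := by rw [← pow_two, ← hz]; exact pow_orderOf_eq_one z
  have hzr : ¬ p ∣ orderOf z := D.not_dvd_involution hz
  have hzx : IsConj z x := by
    by_contra hne
    have hN : (conjPairs z v).card = 0 := by
      rw [Finset.card_eq_zero, Finset.eq_empty_iff_forall_notMem]
      intro w hw
      have hmem := mul_mem_centralizer_of_inverts (z := v) ⟨hxx, hxinv⟩ (inverts_of_mem_conjPairs hzz hw)
      rw [S.centralizer_eq hvP hv1] at hmem
      obtain ⟨c, -, hc⟩ := S.exists_conj (Subgroup.mem_zpowers x) hx1 hmem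
      rw [mul_assoc w x x, hxx, mul_one] at hc
      exact hne ((Finset.mem_filter.1 hw).2.1.trans (isConj_iff.2 ⟨c, hc⟩).symm)
    have h := D.coeff S hzz hzr hvP hv1 hθ
    rw [hN, Nat.cast_zero, mul_zero, hX, Finset.sum_singleton, mul_eq_zero,
      or_iff_right Char.card_ne_zero_complex, hs, hf] at h
    obtain ⟨w, hw, -, hwlt⟩ := Exceptional.exists_involution_value_lt θ.2
      (show (θ : G → ℂ) 1 = (d : ℂ) by rw [D.deg θ, D.degY θ hθ]) hz
    obtain ⟨i, hi, hwi⟩ := hwlt (by omega)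
    have hr := hrel z hzr
    rw [hs, hw] at hr
    have hvv : (χ : G → ℂ) z = 1 + (w : ℂ) := by push_cast at hr; linear_combination hr
    rw [hvv, hw] at h
    have hd0 : (d : ℂ) ≠ 0 := Nat.cast_ne_zero.2 (by omega)
    have hp1 : ((p - 1 : ℕ) : ℂ) = (d : ℂ) + 1 := by exact_mod_cast (show p - 1 = d + 1 by clear * - hde hd2; omega)
    have hd1 : (d : ℂ) + 1 ≠ 0 := by exact_mod_cast (show d + 1 ≠ 0 by clear * -; omega)
    rw [hp1] at h
    push_cast at h
    field_simp at h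
    have h2 : (((w - d) ^ 2 : ℤ) : ℂ) = ((0 : ℤ) : ℂ) := by push_cast; linear_combination h
    have h3 : w - d = 0 := pow_eq_zero_iff two_ne_zero |>.1 (Int.cast_injective h2)
    clear * - h3 hwi hi
    omega
  obtain ⟨c, rfl⟩ := isConj_iff.1 hzx.symm
  set z := c * x * c⁻¹ with hzdef
  have hθx : (θ : G → ℂ) x = -1 := by
    have := hrel x hxr
    rw [hχx, mul_zero, add_zero] at this
    linear_combination -this
  have h := D.coeff S hxx hxr hvP hv1 hθ
  rw [hX, Finset.sum_singleton, hχx, hθx, hcard,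
    ← Exceptional.card_centralizer_conj x c⁻¹, inv_inv] at h
  set ρ := Nat.card ↥(Subgroup.centralizer ({z} : Set G))
  set N := (conjPairs x v).card
  obtain ⟨c', hc'⟩ := hzC
  have hd0 : (d : ℂ) ≠ 0 := Nat.cast_ne_zero.2 (by omega)
  have heq : p * 2 ^ b * (d + 1) = ρ * ρ * N := by
    push_cast at h
    field_simp at h
    exact_mod_cast (by linear_combination h : (p : ℂ) * 2 ^ b * ((d : ℂ) + 1) = (ρ : ℂ) * ρ * (N : ℂ))
  rw [hc', show d + 1 = 2 ^ j by omega] at heq
  have h2 : 2 ^ b ∣ p * 2 ^ j := ⟨c' * c' * N,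
    Nat.eq_of_mul_eq_mul_left (pow_pos (show 0 < 2 by norm_num) b) (by linear_combination heq)⟩
  have h3 : 2 ^ b ∣ 2 ^ j := Nat.Coprime.dvd_of_dvd_mul_left (Nat.Coprime.pow_left b
    ((Nat.coprime_primes Nat.prime_two hp.out).2 (by omega))) h2
  have hbj : b = j := le_antisymm ((Nat.pow_dvd_pow_iff_le_right (by norm_num)).1 h3) hjb
  subst hbj
  refine ⟨n, hn, ?_, b, by omega⟩
  rw [← hj] at hA
  obtain ⟨p', rfl⟩ : ∃ p', p = p' + 3 := ⟨p - 3, by omega⟩
  rw [show p' + 3 - 1 = p' + 2 by omega, show d = p' + 1 by omega] at hA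
  have h5 : (2 * n) * (p' + 3) = p' * (p' + 3) := by linear_combination hA
  have := Nat.eq_of_mul_eq_mul_right (by omega) h5
  omega

end Cfsg.Agent.SmallGroups.SelfCentPrime.Cofactor
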