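import Cfsg.Agent.SmallGroups.SelfCentPrime.Cofactor.Minus

/-!
# The exceptional degree `p - e` with `4 ∣ e`

The involution of the complement is central in a Sylow `2`-subgroup, which bounds its order.
-/

set_option linter.style.haveILetI false
set_option linter.unusedSectionVars false

noncomputable section

namespace Cfsg.Agent.SmallGroups.SelfCentPrime.Cofactor

open scoped Classical ComplexConjugate
open Cfsg Finset

universe u

/-- The sum of the powers of a root of unity other than `1`. -/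
theorem sum_pow_val_eq_zero {n : ℕ} [NeZero n] {α : ℂ} (hn : 1 < n) (h : α ^ n = 1) (h1 : α ≠ 1) :
    ∑ k : ZMod n, α ^ k.val = 0 := by
  haveI : Fact (1 < n) := ⟨hn⟩
  have h2 : α * ∑ k : ZMod n, α ^ k.val = ∑ k : ZMod n, α ^ k.val := by
    rw [Finset.mul_sum]
    refine Fintype.sum_equiv (Equiv.addLeft (1 : ZMod n)) _ _ fun j => ?_
    rw [Equiv.coe_addLeft, pow_val_add h, ZMod.val_one, pow_one]
  have h3 : (α - 1) * ∑ k : ZMod n, α ^ k.val = 0 := by linear_combination h2
  exact (mul_eq_zero.1 h3).resolve_left (sub_ne_zero.2 h1)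

/-- The exponent of `2` modulo a Fermat prime. -/
theorem eq_zero_or_le_of_dvd {i c : ℕ} (h : 2 ^ (i + 1) + 1 ∣ 2 ^ c - 1) : c = 0 ∨ 2 * (i + 1) ≤ c := by
  by_contra hcon
  rw [not_or, not_le] at hcon
  obtain ⟨hc0, hc⟩ := hcon
  rcases Nat.lt_or_ge c (i + 2) with h1 | h1
  · have h2 : 2 ^ c ≤ 2 ^ (i + 1) := Nat.pow_le_pow_right (by norm_num) (by omega)
    have h3 : 2 ≤ 2 ^ c := Nat.le_self_pow hc0 2
    have := Nat.le_of_dvd (by omega) h
    omega
  · obtain ⟨r, rfl⟩ : ∃ r, c = i + 1 + r := ⟨c - (i + 1), by omega⟩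
    have h2 : 2 ^ r < 2 ^ (i + 1) := Nat.pow_lt_pow_right (by norm_num) (by omega)
    have h3 : ((2 ^ (i + 1) + 1 : ℕ) : ℤ) ∣ ((2 ^ (i + 1 + r) : ℕ) : ℤ) - 1 := by
      have := Int.natCast_dvd_natCast.2 h
      rwa [Nat.cast_sub Nat.one_le_two_pow, Nat.cast_one] at this
    have h4 : ((2 ^ (i + 1) + 1 : ℕ) : ℤ) ∣ ((2 ^ r + 1 : ℕ) : ℤ) := by
      have h5 := dvd_sub (dvd_mul_left ((2 ^ (i + 1) + 1 : ℕ) : ℤ) ((2 : ℤ) ^ r)) h3
      have key : ((2 ^ r + 1 : ℕ) : ℤ) = (2 : ℤ) ^ r * ((2 ^ (i + 1) + 1 : ℕ) : ℤ) -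
          (((2 ^ (i + 1 + r) : ℕ) : ℤ) - 1) := by
        push_cast
        ring
      rw [key]
      exact h5
    have := Nat.le_of_dvd (Nat.succ_pos _) (Int.natCast_dvd_natCast.1 h4)
    omega

variable {G : Type u} [Group G] [Fintype G] [IsSimpleGroup G] {p : ℕ} [hp : Fact p.Prime]
variable {P : Sylow p G} {x : G} {b g₀ e t d : ℕ} {X Y : Finset (Cfsg.IrrCharacter G)}
  {sg : Cfsg.IrrCharacter G → ℤ} {dg : Cfsg.IrrCharacter G → ℕ}
  (hG : ¬ IsMulCommutative G) (D : Data P 2 b g₀ e t (-1) d X Y sg dg) (S : Setup P x e)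

include D S in
/-- The exceptional characters vanish on elements of order divisible by an odd prime other than `p`. -/
theorem Data.theta_eq_zero (hd : Odd d) {θ : Cfsg.IrrCharacter G} (hθ : θ ∈ Y) {r : ℕ} (hr : r.Prime)
    (hrp : r ≠ p) (hr2 : r ≠ 2) {g : G} (hg : r ∣ orderOf g) : (θ : G → ℂ) g = 0 := by
  have hg0 := D.minus_g
  subst g₀
  have hd0 : d ≠ 0 := by have := D.two_le_d; omega
  refine Char.irr_defect_zero_vanish' θ.2 hr (n := d.factorization r) (d := d) ?_
    (by rw [D.deg θ, D.degY θ hθ]) (Nat.ordProj_dvd d r) g hg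
  intro h
  rw [D.card] at h
  refine Nat.pow_succ_factorization_not_dvd hd0 hr (Nat.Coprime.dvd_of_dvd_mul_left ?_ h)
  exact Nat.Coprime.pow_left _ (Nat.Coprime.mul_right ((Nat.coprime_primes hr hp.out).2 hrp)
    (Nat.Coprime.pow_right b ((Nat.coprime_primes hr Nat.prime_two).2 hr2)))

include hG D S in
/-- An involution is not minus a reflection. -/
theorem Data.no_reflection (hd : Odd d) (hd5 : 5 ≤ d) {θ : Cfsg.IrrCharacter G} (hθ : θ ∈ Y)
    (hθP : ∑ v : ↥(P : Subgroup G), (θ : G → ℂ) v = (p : ℂ)) {z : G} (hz : orderOf z = 2) :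
    (θ : G → ℂ) z ≠ 2 - (d : ℂ) := by
  intro hzv
  have hzz : z * z = 1 := by rw [← pow_two, ← hz]; exact pow_orderOf_eq_one z
  haveI := Fact.mk Nat.prime_two
  have hpair : ∀ a : G, IsPGroup 2 ↥(Subgroup.closure ({z, a * z * a⁻¹} : Set G)) := by
    intro a
    set z' := a * z * a⁻¹
    have hz'z : z' * z' = 1 := by
      calc a * z * a⁻¹ * (a * z * a⁻¹) = a * (z * z) * a⁻¹ := by group
        _ = 1 := by rw [hzz]; group
    refine Gagola.isPGroup_closure_pair hzz hz'z ?_
    set g := z * z' with hg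
    have hall : ∀ r : ℕ, r.Prime → r ∣ orderOf g → r = 2 := by
      intro r hr hrg
      by_contra hr2
      haveI := Fact.mk hr
      set h := g ^ (orderOf g / r)
      have hho : orderOf h = r := orderOf_pow_orderOf_div (orderOf_pos g).ne' hrg
      have hhr : h ^ r = 1 := by rw [← hho]; exact pow_orderOf_eq_one h
      obtain ⟨m, hm, hdm⟩ := le_fixed_of_involutions (Char.isCharacter_of_irr θ.2)
        (show (θ : G → ℂ) 1 = (d : ℂ) by rw [D.deg θ, D.degY θ hθ]) hzz hz'z hzv
        (by rw [Char.irr_isClassFunction θ.2]; exact hzv) (orderOf g / r) hhr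
      by_cases hrp : r = p
      · subst hrp
        have hhP : IsPGroup r ↥(Subgroup.zpowers h) :=
          IsPGroup.of_card (n := 1) (by rw [Nat.card_zpowers, hho, pow_one])
        obtain ⟨Q, hQ⟩ := hhP.exists_le_sylow
        obtain ⟨c, hc⟩ := MulAction.exists_smul_eq G Q P
        have hcP : c * h * c⁻¹ ∈ (P : Subgroup G) := by
          rw [← hc, Sylow.coe_subgroup_smul]
          exact Subgroup.smul_mem_pointwise_smul h (MulAut.conj c) _ (hQ (Subgroup.mem_zpowers h))
        have hco : orderOf (c * h * c⁻¹) = r :=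
          (orderOf_injective (MulAut.conj c).toMonoidHom (MulAut.conj c).injective h).trans hho
        have hsum : ∑ k : ZMod r, (θ : G → ℂ) (h ^ k.val) = ∑ v : ↥(P : Subgroup G), (θ : G → ℂ) v := by
          refine Fintype.sum_bijective (fun k : ZMod r => (⟨(c * h * c⁻¹) ^ k.val, pow_mem hcP _⟩ : ↥(P : Subgroup G)))
            ((Nat.bijective_iff_injective_and_card _).2 ⟨?_, by
              rw [Nat.card_eq_fintype_card (α := ZMod r), ZMod.card,
                show Nat.card ↥(P : Subgroup G) = r from S.cardP]⟩) _ _ fun k => ?_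
          · intro i j hij
            have h2 : (c * h * c⁻¹) ^ i.val = (c * h * c⁻¹) ^ j.val := congrArg Subtype.val hij
            rw [pow_eq_pow_iff_modEq, hco, ← ZMod.natCast_eq_natCast_iff, ZMod.natCast_zmod_val,
              ZMod.natCast_zmod_val] at h2
            exact h2
          · show _ = (θ : G → ℂ) ((c * h * c⁻¹) ^ k.val)
            rw [conj_pow, Char.irr_isClassFunction θ.2]
        have h1 : ((r * m : ℕ) : ℂ) = ((r * 1 : ℕ) : ℂ) := by
          push_cast; rw [mul_one, ← hm, hsum, hθP]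
        have h2 : m = 1 := Nat.eq_of_mul_eq_mul_left hr.pos (Nat.cast_injective h1)
        omega
      · have hsum : ∑ k : ZMod r, (θ : G → ℂ) (h ^ k.val) = (d : ℂ) := by
          rw [Finset.sum_eq_single (0 : ZMod r)]
          · rw [ZMod.val_zero, pow_zero, D.deg θ, D.degY θ hθ]
          · intro k _ hk
            refine D.theta_eq_zero S hd hθ hr hrp hr2 ?_
            rw [Nat.Coprime.orderOf_pow (by
              rw [hho, hr.coprime_iff_not_dvd]
              intro hdvd
              have := Nat.eq_zero_of_dvd_of_lt hdvd (ZMod.val_lt k)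
              exact hk ((ZMod.val_eq_zero k).1 this)), hho]
          · exact fun h => absurd (Finset.mem_univ _) h
        have h1 : d = r * m := by
          have : ((d : ℕ) : ℂ) = ((r * m : ℕ) : ℂ) := by push_cast; rw [← hm, hsum]
          exact_mod_cast this
        have h3 : 3 * m ≤ r * m := Nat.mul_le_mul_right m (by have := hr.two_le; omega)
        omega
    obtain ⟨k, hk⟩ : ∃ k, orderOf g = 2 ^ k :=
      ⟨_, Nat.eq_prime_pow_of_unique_prime_dvd (orderOf_pos g).ne' fun {r} hr hrg => hall r hr hrg⟩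
    exact ⟨k, by rw [← hk]; exact pow_orderOf_eq_one g⟩
  obtain ⟨N, hN, hN2, hzN⟩ := Invol.baer_suzuki (Subgroup.zpowers z)
    (IsPGroup.of_card (n := 1) (by rw [Nat.card_zpowers, hz, pow_one])) fun a => by
      refine (hpair a).to_le (sup_le (Subgroup.zpowers_le.2 (Subgroup.subset_closure (Set.mem_insert _ _))) ?_)
      rw [Fusion.cj, MonoidHom.map_zpowers, Subgroup.zpowers_le]
      exact Subgroup.subset_closure (Set.mem_insert_of_mem _ rfl)
  rcases hN.eq_bot_or_eq_top with h | h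
  · rw [h, Subgroup.zpowers_le, Subgroup.mem_bot] at hzN
    rw [hzN, orderOf_one] at hz; omega
  · subst h
    obtain ⟨k, hk⟩ := hN2.exists_card_eq
    rw [Subgroup.card_top, D.card] at hk
    have hp2 : p ∣ 2 ^ k := hk ▸ Dvd.intro (2 ^ b * g₀) (by ring)
    have := (Nat.prime_dvd_prime_iff_eq hp.out Nat.prime_two).1 (hp.out.dvd_of_dvd_pow hp2)
    have := D.three_le_p
    omega

include hG D S in
/-- The case `4 ∣ e`. -/
theorem Data.minus_four (hd : Odd d) {i : ℕ} (hi : 2 ≤ i) (hib : i ≤ b) (he : e = 2 ^ i) :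
    Nat.card (Sylow p G) = 1 + 1 * p ∧ ∃ k, p = 2 ^ k + 1 := by
  have hde := D.d_add_e
  have hte := D.te
  have hp3 := D.three_le_p
  have hg0 := D.minus_g
  subst g₀
  have hd2 := D.two_le_d
  have ht2 := D.two_le_t
  have hcard := D.card
  have he4 : 4 ∣ e := he ▸ (show 4 = 2 ^ 2 by norm_num) ▸ pow_dvd_pow 2 hi
  obtain ⟨θ, hθ⟩ := D.exists_mem
  -- a character of degree `p + 1 = 2 d`
  obtain ⟨χ₁, hχ₁, hχ₁4⟩ : ∃ χ ∈ X, ¬ 4 ∣ dg χ := by
    by_contra hcon
    push Not at hcon
    have h := D.rel θ hθ 1 D.not_dvd_one_elem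
    simp only [D.deg] at h
    rw [D.degY θ hθ] at h
    have h2 : ((-1 : ℤ) * (d : ℤ)) = 1 + ∑ χ ∈ X, sg χ * (dg χ : ℤ) := by exact_mod_cast h
    have h4 : (4 : ℤ) ∣ ∑ χ ∈ X, sg χ * (dg χ : ℤ) :=
      Finset.dvd_sum fun χ hχ => (Int.natCast_dvd_natCast.2 (hcon χ hχ)).mul_left _
    obtain ⟨c, hc⟩ := h4
    obtain ⟨c', hc'⟩ := he4.mul_left t
    omega
  have hf1 : dg χ₁ = p + 1 ∧ p + 1 = 2 * d := by
    obtain ⟨hs, hbig, h2, hmod⟩ := D.degX χ₁ hχ₁
    obtain ⟨f', hf'⟩ := h2
    have hf'odd : ¬ 2 ∣ f' := fun ⟨c, hc⟩ => hχ₁4 ⟨c, by omega⟩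
    have hf'd : f' ∣ d := by
      obtain ⟨f, -, hf, hfd⟩ := Char.irr_degree_dvd_card χ₁.2
      rw [D.deg χ₁, hf'] at hf
      obtain rfl : f = 2 * f' := by exact_mod_cast hf.symm
      rw [hcard] at hfd
      have hnp : ¬ p ∣ f' := by
        intro h
        have h1 : (p : ℤ) ∣ (dg χ₁ : ℤ) := by rw [hf']; exact_mod_cast h.mul_left 2
        have h2 := Int.natAbs_dvd_natAbs.2 (dvd_sub h1 hmod)
        rw [sub_sub_cancel, Int.natAbs_natCast] at h2
        rcases hs with hs | hs <;> rw [hs] at h2 <;>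
          exact hp.out.one_lt.ne' (Nat.dvd_one.1 (by simpa using h2))
      exact (Nat.Coprime.mul_right ((hp.out.coprime_iff_not_dvd.2 hnp).symm)
        (Nat.Coprime.pow_right b ((Nat.prime_two.coprime_iff_not_dvd.2 hf'odd).symm))).dvd_of_dvd_mul_left
        ((dvd_mul_left f' 2).trans hfd)
    have := D.two_le_e
    have hf'le : f' ≤ d := Nat.le_of_dvd (by omega) hf'd
    obtain ⟨c, hc⟩ := he4.mul_left t
    obtain ⟨k, hk⟩ := hmod
    rcases hs with hs | hs <;> rw [hs] at hk
    · have hk1 : k = 1 := by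
        rcases lt_trichotomy k 1 with h | h | h
        · have : (p : ℤ) * k ≤ p * 0 := mul_le_mul_of_nonneg_left (by omega) (Int.natCast_nonneg _)
          omega
        · exact h
        · have : (p : ℤ) * 2 ≤ p * k := mul_le_mul_of_nonneg_left (by omega) (Int.natCast_nonneg _)
          omega
      subst hk1
      obtain ⟨c', hc'⟩ := hf'd
      rcases Nat.lt_or_ge c' 2 with h | h
      · interval_cases c'
        · omega
        · omega
      · have := Nat.mul_le_mul_left f' h
        omega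
    · exfalso
      have hk1 : k = 1 := by
        rcases lt_trichotomy k 1 with h | h | h
        · have : (p : ℤ) * k ≤ p * 0 := mul_le_mul_of_nonneg_left (by omega) (Int.natCast_nonneg _)
          omega
        · exact h
        · have : (p : ℤ) * 2 ≤ p * k := mul_le_mul_of_nonneg_left (by omega) (Int.natCast_nonneg _)
          omega
      subst hk1
      omega
  obtain ⟨-, hp2d⟩ := hf1
  have hpe : p = 2 * e + 1 := by omega
  have hde1 : d = e + 1 := by omega
  refine ⟨?_, i + 1, by rw [hpe, he, pow_succ]; ring⟩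
  obtain ⟨n, hn'⟩ : p ∣ Nat.card (Sylow p G) - 1 :=
    (Nat.modEq_iff_dvd' Nat.card_pos).1 (card_sylow_modEq_one p G).symm
  have hn : Nat.card (Sylow p G) = 1 + n * p := by
    have := Nat.card_pos (α := Sylow p G); rw [mul_comm]; omega
  have hn1 : 1 ≤ n := S.n_pos hn hG
  have hA := D.card_pe S hn
  have hpn : p ≤ n * p := Nat.le_mul_of_pos_left p hn1
  have hbi : i < b := by
    by_contra h
    obtain rfl : b = i := by omega
    rw [← he] at hA
    have := Nat.eq_of_mul_eq_mul_left (by omega) hA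
    omega
  obtain ⟨c, rfl⟩ : ∃ c, b = i + 1 + c := ⟨b - (i + 1), by omega⟩
  have hAc : 1 + n * p = 2 ^ c * (p + 1) := by
    refine Nat.eq_of_mul_eq_mul_left (show 0 < e by omega) ?_
    rw [hA, hp2d, he, pow_add, pow_succ]
    ring
  have hpc : p ∣ 2 ^ c - 1 := by
    have h1 : (p : ℤ) ∣ ((2 ^ c : ℕ) : ℤ) - 1 := ⟨(n : ℤ) - 2 ^ c, by
      have := congrArg (fun z : ℕ => (z : ℤ)) hAc
      push_cast at this ⊢
      linear_combination -this⟩
    have h2 : ((p : ℕ) : ℤ) ∣ ((2 ^ c - 1 : ℕ) : ℤ) := by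
      rw [Nat.cast_sub Nat.one_le_two_pow, Nat.cast_one]; exact h1
    exact Int.natCast_dvd_natCast.1 h2
  rcases eq_zero_or_le_of_dvd (i := i) (c := c)
    (by rw [show 2 ^ (i + 1) + 1 = p by rw [hpe, he, pow_succ]; ring]; exact hpc) with hc0 | hc2
  · subst hc0
    rw [pow_zero, one_mul] at hAc
    rw [hn, show n = 1 from Nat.eq_of_mul_eq_mul_right hp.out.pos (by omega)]
  exfalso
  -- the involution of the complement
  have hxo := S.order
  have hreg : ∀ y ∈ Subgroup.zpowers x, ¬ p ∣ orderOf y := fun y hy => S.not_dvd_orderOf hy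
  obtain ⟨f, hf⟩ : 2 ∣ e := (show 2 ∣ 4 by norm_num).trans he4
  have hf0 : f ≠ 0 := by omega
  set u := x ^ f with hu
  have huo : orderOf u = 2 := by
    rw [hu, orderOf_pow_of_dvd hf0 (by rw [hxo]; exact ⟨2, by omega⟩), hxo, hf,
      Nat.mul_div_cancel _ (Nat.pos_of_ne_zero hf0)]
  have hux : Commute u x := (Commute.refl x).pow_left f
  have huE : u ∈ Subgroup.zpowers x := pow_mem (Subgroup.mem_zpowers x) f
  have hu1 : u ≠ 1 := fun h => by rw [h, orderOf_one] at huo; omega
  have huu : u * u = 1 := by rw [← pow_two, ← huo]; exact pow_orderOf_eq_one u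
  have hx1 : x ≠ 1 := fun h => by rw [h, orderOf_one] at hxo; omega
  have hodd2 : ¬ 2 ∣ d := fun h => (Nat.not_even_iff_odd.2 hd) (even_iff_two_dvd.2 h)
  haveI : NeZero e := ⟨by omega⟩
  -- the eigenvalue on the fixed space
  obtain ⟨μ₀, hμ₀⟩ := D.minus_theta S
  obtain ⟨hθP, hθy⟩ := hμ₀ θ hθ
  have hcomm : ∀ v w : ↥(Subgroup.zpowers x), v * w = w * v :=
    fun v w => (inferInstance : IsMulCommutative ↥(Subgroup.zpowers x)).is_comm.comm v w
  obtain ⟨μ, hμ⟩ := Char.irr_exists_monoidHom_of_comm hcomm μ₀.2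
  set η : ℂ := ((μ ⟨x, Subgroup.mem_zpowers x⟩ : ℂˣ) : ℂ) with hη
  have hθpow : ∀ l : ℕ, x ^ l ≠ 1 → (θ : G → ℂ) (x ^ l) = η ^ l := by
    intro l hl
    rw [show (x ^ l) = ((⟨x, Subgroup.mem_zpowers x⟩ ^ l : ↥(Subgroup.zpowers x)) : G) from rfl,
      hθy _ (fun h => hl (congrArg Subtype.val h)), hμ, map_pow, Units.val_pow_eq_pow_val]
  have hηe : η ^ e = 1 := by
    rw [hη, ← Units.val_pow_eq_pow_val, ← map_pow,
      show (⟨x, Subgroup.mem_zpowers x⟩ : ↥(Subgroup.zpowers x)) ^ e = 1 from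
        Subtype.ext (by rw [← hxo]; exact pow_orderOf_eq_one x), map_one, Units.val_one]
  have hecard : e * 1 ∣ Nat.card G := by
    rw [mul_one, ← hxo]; exact orderOf_dvd_natCard x
  haveI : NeZero (Nat.card G) := ⟨Nat.card_pos.ne'⟩
  have hη1 : η = 1 ∨ η = -1 := by
    obtain ⟨J, hJ, hJe, -⟩ := OddChar.exists_coprime_exponent hecard (Nat.coprime_one_right e)
      (show (e - 1).Coprime e by rw [Nat.coprime_self_sub_left (by omega)]; exact Nat.coprime_one_left e)
    have h1 := D.twist_eq S hθ hodd2 (hreg x (Subgroup.mem_zpowers x)) hJ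
    have hxJ : x ^ J = x ^ (e - 1) := by rw [pow_eq_pow_iff_modEq, hxo]; exact hJe
    rw [hxJ, hθpow _ (fun h => by
        have := Nat.le_of_dvd (by omega) (hxo ▸ orderOf_dvd_of_pow_eq_one h)
        omega), ← pow_one x, hθpow 1 (by rw [pow_one]; exact hx1), pow_one] at h1
    have h2 : η * η = 1 := by
      conv_rhs => rw [← hηe, show e = e - 1 + 1 by omega, pow_succ, h1]
    exact sq_eq_one_iff.1 (by rw [pow_two]; exact h2)
  have hθu : (θ : G → ℂ) u = 1 := by
    rw [hu, hθpow f (fun h => hu1 h)]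
    rcases hη1 with h | h <;> rw [h]
    · exact one_pow _
    · obtain ⟨c', hc'⟩ := he4
      exact Even.neg_one_pow ⟨c', by omega⟩
  set C := Subgroup.centralizer ({u} : Set G) with hC
  have huC : u ∈ C := Subgroup.mem_centralizer_singleton_iff.2 rfl
  have hxC : x ∈ C := Subgroup.mem_centralizer_singleton_iff.2 hux.symm.eq
  -- `C` is a `2`-group
  have hC2 : IsPGroup 2 ↥C := by
    refine IsPGroup.of_card (n := (Nat.card ↥C).primeFactorsList.length)
      (Nat.eq_prime_pow_of_unique_prime_dvd Nat.card_pos.ne' fun {r} hr hrd => ?_)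
    by_contra hr2
    haveI := Fact.mk hr
    obtain ⟨h, hh⟩ := exists_prime_orderOf_dvd_card' (G := ↥C) r hrd
    have hho : orderOf (h : G) = r := by rw [Subgroup.orderOf_coe, hh]
    have huh : Commute u (h : G) := (Subgroup.mem_centralizer_singleton_iff.1 h.2).symm
    have hrp : r ≠ p := by
      rintro rfl
      exact S.not_dvd_card_centralizer huo (by omega) hrd
    have hhr : (h : G) ^ r = 1 := by rw [← hho]; exact pow_orderOf_eq_one (h : G)
    obtain ⟨a, a', -, hdiff⟩ := exists_split (Char.isCharacter_of_irr θ.2) huu huh hhr (one_pow r)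
    rw [Finset.sum_eq_single (0 : ZMod r)] at hdiff
    · rw [ZMod.val_zero, pow_zero, pow_zero, mul_one, one_mul, hθu] at hdiff
      have h1 : (1 : ℤ) = (r : ℤ) * ((a : ℤ) - a') := by exact_mod_cast hdiff
      exact hr.ne_one (Nat.dvd_one.1 (Int.natCast_dvd_natCast.1 ⟨(a : ℤ) - a', by exact_mod_cast h1⟩))
    · intro k _ hk
      have hko : orderOf ((h : G) ^ k.val) = r := by
        rw [Nat.Coprime.orderOf_pow (by
          rw [hho, hr.coprime_iff_not_dvd]
          intro hdvd
          exact hk ((ZMod.val_eq_zero k).1 (Nat.eq_zero_of_dvd_of_lt hdvd (ZMod.val_lt k)))), hho]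
      rw [D.theta_eq_zero S hd hθ hr hrp hr2, mul_zero]
      rw [(huh.pow_right k.val).orderOf_mul_eq_mul_orderOf_of_coprime (by
        rw [huo, hko]; exact (Nat.coprime_primes Nat.prime_two hr).2 (Ne.symm hr2)), hko]
      exact dvd_mul_left r _
    · exact fun h => absurd (Finset.mem_univ _) h
  haveI := Fact.mk Nat.prime_two
  obtain ⟨T, hCT⟩ := hC2.exists_le_sylow
  have hTc : Nat.card ↥(T : Subgroup G) = 2 ^ (i + 1 + c) :=
    SmallGroups.card_sylow_subgroup (m := p * d) (by rw [hcard]; ring) (fun h => by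
      rcases Nat.prime_two.dvd_mul.1 h with h | h
      · have := (Nat.prime_dvd_prime_iff_eq Nat.prime_two hp.out).1 h; omega
      · exact hodd2 h) T
  -- `C` is a Sylow subgroup
  have hCc : Nat.card ↥C = 2 ^ (i + 1 + c) := by
    by_contra hne
    have hlt : C.subgroupOf (T : Subgroup G) < ⊤ := by
      refine lt_top_iff_ne_top.2 fun h => hne ?_
      rw [← hTc, le_antisymm hCT (Subgroup.subgroupOf_eq_top.1 h)]
    haveI : Group.IsNilpotent ↥(T : Subgroup G) := T.2.isNilpotent
    obtain ⟨g, hgN, hgC⟩ := SetLike.exists_of_lt (normalizerCondition_of_isNilpotent _ hlt)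
    rw [Subgroup.mem_subgroupOf] at hgC
    have hgN' : ∀ a : ↥(T : Subgroup G), (a : G) ∈ C ↔ (g : G) * a * (g : G)⁻¹ ∈ C := fun a =>
      Subgroup.mem_normalizer_iff.1 hgN a
    set u' := (g : G) * u * (g : G)⁻¹ with hu'
    have hu'C : u' ∈ C := (hgN' ⟨u, hCT huC⟩).1 huC
    have hu'o : orderOf u' = 2 :=
      (orderOf_injective (MulAut.conj (g : G)).toMonoidHom (MulAut.conj (g : G)).injective u).trans huo
    have hu'x : Commute u' x := by
      have h1 : (g : G)⁻¹ * x * g ∈ C := by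
        have h2 := hgN' ⟨(g : G)⁻¹ * x * g, mul_mem (mul_mem (inv_mem g.2) (hCT hxC)) g.2⟩
        rw [show (g : G) * ((g : G)⁻¹ * x * g) * (g : G)⁻¹ = x by group] at h2
        exact h2.2 hxC
      rw [Subgroup.mem_centralizer_singleton_iff] at h1
      show u' * x = x * u'
      calc u' * x = (g : G) * (u * ((g : G)⁻¹ * x * g)) * (g : G)⁻¹ := by rw [hu']; group
        _ = x * u' := by rw [← h1, hu']; group
    have hu'u : u' ≠ u := fun h => hgC (by
      rw [hC, Subgroup.mem_centralizer_singleton_iff]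
      exact mul_inv_eq_iff_eq_mul.1 h)
    have hu'u' : u' * u' = 1 := by rw [← pow_two, ← hu'o]; exact pow_orderOf_eq_one u'
    have hθu' : (θ : G → ℂ) u' = 1 := by rw [hu', Char.irr_isClassFunction θ.2]; exact hθu
    set z := u' * u with hz
    have hzo : orderOf z = 2 := by
      have hc' : Commute u' u := hu'x.pow_right f
      refine orderOf_eq_prime ?_ ?_
      · rw [hz, hc'.mul_pow, pow_two, pow_two, hu'u', huu, one_mul]
      · intro h
        exact hu'u (by rw [mul_eq_one_iff_eq_inv.1 h, inv_eq_of_mul_eq_one_right huu])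
    set ζ : ℂ := Complex.exp (2 * Real.pi * Complex.I / e)
    have hζ : IsPrimitiveRoot ζ e := Complex.isPrimitiveRoot_exp e (by omega)
    have hxe : x ^ e = 1 := by rw [← hxo]; exact pow_orderOf_eq_one x
    have hζk : ∀ k : ZMod e, (ζ ^ k.val) ^ e = 1 := fun k => by
      rw [← pow_mul, mul_comm, pow_mul, hζ.pow_eq_one, one_pow]
    set Sg : ZMod e → ℂ := fun k => ∑ l : ZMod e, (ζ ^ k.val) ^ l.val * (θ : G → ℂ) (u' * x ^ l.val)
    have hmult : ∀ k : ZMod e, Odd k.val →
        ∑ l : ZMod e, (ζ ^ k.val) ^ l.val * (θ : G → ℂ) (x ^ l.val) = (e : ℂ) := by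
      intro k hk
      have hne : ζ ^ k.val * η ≠ 1 := by
        intro h
        have h2 : (ζ ^ k.val) ^ 2 = 1 := by
          have : (ζ ^ k.val * η) ^ 2 = 1 := by rw [h, one_pow]
          rcases hη1 with h' | h' <;> rw [h'] at this <;> simpa using this
        rw [← pow_mul] at h2
        have h3 := (hζ.pow_eq_one_iff_dvd _).1 h2
        obtain ⟨m, hm⟩ := he4.trans h3
        obtain ⟨r, hr⟩ := hk
        omega
      have h0 := sum_pow_val_eq_zero (n := e) (by omega) (by rw [mul_pow, hζk, hηe, one_mul]) hne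
      have hterm : ∀ l ∈ (Finset.univ : Finset (ZMod e)).erase 0,
          (ζ ^ k.val) ^ l.val * (θ : G → ℂ) (x ^ l.val) = (ζ ^ k.val * η) ^ l.val := by
        intro l hl
        rw [mul_pow, hθpow]
        intro h
        have h1 := Nat.eq_zero_of_dvd_of_lt (hxo.symm.dvd.trans (orderOf_dvd_of_pow_eq_one h)) (ZMod.val_lt l)
        exact Finset.ne_of_mem_erase hl ((ZMod.val_eq_zero l).1 h1)
      rw [← Finset.add_sum_erase _ _ (Finset.mem_univ (0 : ZMod e)), Finset.sum_congr rfl hterm,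
        ZMod.val_zero, pow_zero, pow_zero, one_mul, D.deg θ, D.degY θ hθ, hde1]
      rw [← Finset.add_sum_erase _ _ (Finset.mem_univ (0 : ZMod e)), ZMod.val_zero, pow_zero] at h0
      push_cast
      linear_combination h0
    have hval1 : (1 : ZMod e).val = 1 := by
      haveI : Fact (1 < e) := ⟨by omega⟩
      exact ZMod.val_one e
    obtain ⟨a₁, a₂, hs1, hs2⟩ := exists_split (Char.isCharacter_of_irr θ.2) hu'u' hu'x hxe (hζk 1)
    have he0 : (e : ℂ) ≠ 0 := Nat.cast_ne_zero.2 (by omega)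
    have ha : a₁ + a₂ = 1 := by
      rw [hmult 1 (by rw [hval1]; exact odd_one)] at hs1
      have : ((a₁ + a₂ : ℕ) : ℂ) = ((1 : ℕ) : ℂ) := by
        push_cast; exact mul_left_cancel₀ he0 (by rw [← hs1, mul_one])
      exact_mod_cast this
    have hinv : ∀ k : ZMod e, Odd k.val → Sg k = Sg 1 := by
      intro k hk
      have hkc : k.val.Coprime e := by
        have := Nat.Coprime.pow_right i (Nat.coprime_two_right.2 hk)
        rwa [← he] at this
      obtain ⟨J, hJ, hJe, -⟩ := OddChar.exists_coprime_exponent hecard (Nat.coprime_one_right e) hkc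
      have hJodd : Odd J := Nat.coprime_two_right.1 (hJ.coprime_dvd_right
        ⟨p * 2 ^ (i + c) * d, by rw [hcard, show i + 1 + c = i + c + 1 by ring, pow_succ]; ring⟩)
      have hu'J : u' ^ J = u' := by
        obtain ⟨r, hr⟩ := hJodd
        rw [hr, pow_succ, pow_mul, pow_two, hu'u', one_pow, one_mul]
      have hpw : ∀ a l : ZMod e, (ζ ^ a.val) ^ l.val = ζ ^ (a * l).val := by
        intro a l
        rw [← pow_mul, ZMod.val_mul]
        exact pow_eq_pow_mod _ hζ.pow_eq_one
      simp only [Sg, hpw, one_mul]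
      refine Fintype.sum_bijective (k * ·) (Finite.injective_iff_bijective.1 fun a a' h =>
        (((ZMod.isUnit_iff_coprime k.val e).2 hkc)).mul_left_cancel (by simpa [ZMod.natCast_zmod_val] using h)) _ _
        fun l => ?_
      congr 1
      have hmemC : u' * x ^ l.val ∈ C := mul_mem hu'C (pow_mem hxC _)
      have hreg' : ¬ p ∣ orderOf (u' * x ^ l.val) := fun h => S.not_dvd_card_centralizer huo (by omega)
        (h.trans (Subgroup.orderOf_dvd_natCard _ hmemC))
      rw [← D.twist_eq S hθ hodd2 hreg' hJ, (hu'x.pow_right _).mul_pow, hu'J, ← pow_mul]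
      refine congrArg (θ : G → ℂ) (congrArg (u' * ·) ?_)
      rw [pow_eq_pow_iff_modEq, hxo, ← ZMod.natCast_eq_natCast_iff, ZMod.natCast_zmod_val, Nat.cast_mul,
        ZMod.natCast_zmod_val, (ZMod.natCast_eq_natCast_iff _ _ _).2 hJe, ZMod.natCast_zmod_val, mul_comm]
    -- the sum over the odd residues
    have hζf : ζ ^ f = -1 := by
      have h1 : (ζ ^ f) ^ 2 = 1 := by rw [← pow_mul, show f * 2 = e by omega]; exact hζ.pow_eq_one
      refine (sq_eq_one_iff.1 h1).resolve_left fun h => ?_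
      have := Nat.le_of_dvd (by omega) ((hζ.pow_eq_one_iff_dvd f).1 h)
      omega
    have htot : ∀ w : G, ∑ k : ZMod e, ∑ l : ZMod e, (ζ ^ k.val) ^ l.val * (θ : G → ℂ) (w * x ^ l.val) =
        (e : ℂ) * (θ : G → ℂ) w := by
      intro w
      rw [Finset.sum_comm, Finset.sum_eq_single (0 : ZMod e)]
      · simp [ZMod.val_zero, ZMod.card]
      · intro l _ hl
        rw [← Finset.sum_mul]
        refine mul_eq_zero_of_left ?_ _
        rw [Finset.sum_congr rfl fun k _ => pow_right_comm ζ k.val l.val]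
        refine sum_pow_val_eq_zero (by omega) (by rw [← pow_mul, mul_comm, pow_mul, hζ.pow_eq_one, one_pow]) ?_
        intro h
        have h1 := Nat.eq_zero_of_dvd_of_lt ((hζ.pow_eq_one_iff_dvd _).1 h) (ZMod.val_lt l)
        exact hl ((ZMod.val_eq_zero l).1 h1)
      · exact fun h => absurd (Finset.mem_univ _) h
    have hsgn : ∀ k : ZMod e, ∑ l : ZMod e, (ζ ^ k.val) ^ l.val * (θ : G → ℂ) (z * x ^ l.val) =
        (-1) ^ k.val * Sg k := by
      intro k
      simp only [Sg]
      rw [Finset.mul_sum]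
      refine Fintype.sum_equiv (Equiv.addLeft ((f : ℕ) : ZMod e)) _ _ fun l => ?_
      have hfv : ((f : ℕ) : ZMod e).val = f := ZMod.val_cast_of_lt (by omega)
      rw [Equiv.coe_addLeft, pow_val_add (hζk k), pow_val_add hxe, hfv, pow_right_comm ζ k.val f, hζf, hz,
        mul_assoc u']
      have hpm : (-1 : ℂ) ^ k.val * (-1 : ℂ) ^ k.val = 1 := by rw [← mul_pow]; norm_num
      linear_combination (-((ζ ^ k.val) ^ l.val * (θ : G → ℂ) (u' * (u * x ^ l.val)))) * hpm
    have hdiff : (θ : G → ℂ) u' - (θ : G → ℂ) z = Sg 1 := by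
      refine mul_left_cancel₀ he0 ?_
      rw [mul_sub, ← htot u', ← htot z, Finset.sum_congr rfl fun k _ => hsgn k, ← Finset.sum_sub_distrib]
      have h2 : ∀ k : ZMod e, Sg k - (-1) ^ k.val * Sg k = (1 - (-1 : ℂ) ^ k.val) * Sg 1 := by
        intro k
        rcases Nat.even_or_odd k.val with h | h
        · rw [h.neg_one_pow]; ring
        · rw [hinv k h, h.neg_one_pow]; ring
      rw [Finset.sum_congr rfl fun k _ => h2 k, ← Finset.sum_mul, Finset.sum_sub_distrib,
        sum_pow_val_eq_zero (by omega) (Even.neg_one_pow ⟨f, by omega⟩) (by norm_num), sub_zero,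
        Finset.sum_const, Finset.card_univ, ZMod.card, nsmul_eq_mul, mul_one]
    rw [hθu', show Sg 1 = (e : ℂ) * ((a₁ : ℂ) - a₂) from hs2] at hdiff
    have hθ1 : (θ : G → ℂ) 1 = (d : ℂ) := by rw [D.deg θ, D.degY θ hθ]
    have hdC : (d : ℂ) = (e : ℂ) + 1 := by exact_mod_cast hde1
    rcases Nat.eq_zero_or_pos a₁ with h | h
    · obtain rfl : a₂ = 1 := by omega
      rw [h, Nat.cast_zero, Nat.cast_one] at hdiff
      exact Exceptional.value_ne_degree θ.2 hθ1 (by omega) hzo (by linear_combination -hdiff - hdC)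
    · obtain rfl : a₁ = 1 := by omega
      obtain rfl : a₂ = 0 := by omega
      rw [Nat.cast_zero, Nat.cast_one] at hdiff
      exact D.no_reflection hG S hd (by omega) hθ hθP hzo (by linear_combination -hdiff + hdC)
  -- the bound
  obtain ⟨v, hvo, hvP'⟩ := Brauer.OrderP.exists_gen P S.cardP
  have hvP : v ∈ (P : Subgroup G) := hvP' ▸ Subgroup.mem_zpowers v
  have hv1 : v ≠ 1 := fun h => by rw [h, orderOf_one] at hvo; exact hp.out.ne_one hvo.symm
  have hidx : C.index = p * d := by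
    refine Nat.eq_of_mul_eq_mul_left (Nat.card_pos (α := ↥C)) ?_
    rw [C.card_mul_index, hCc, hcard]; ring
  have hcls : ∀ χ ∈ X, ∃ q' : ℕ, q' ≤ 2 ∧ (sg χ : ℂ) * (χ : G → ℂ) u ^ 2 / (dg χ : ℂ) = (q' : ℂ) / (d : ℂ) := by
    intro χ hχ
    obtain ⟨hs, hbig, h2f, hmod⟩ := D.degX χ hχ
    obtain ⟨m, a, hm, hma, hmy, -⟩ := S.exists_fixed_decomp (Char.isCharacter_of_irr χ.2)
    rw [S.sum_P (f := (χ : G → ℂ)) (D.valX χ hχ), D.deg χ] at hm
    obtain ⟨w, hw, iw, hiw, hwi⟩ := Exceptional.exists_involution_value (Char.isCharacter_of_irr χ.2)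
      (D.deg χ) huo
    have hwm : w.natAbs ≤ m := by
      have hnorm : ∀ ν : Cfsg.IrrCharacter ↥(Subgroup.zpowers x),
          ‖(ν : ↥(Subgroup.zpowers x) → ℂ) ⟨u, huE⟩‖ = 1 := fun ν => by
        obtain ⟨F, hF⟩ := Char.irr_exists_monoidHom_of_comm hcomm ν.2
        rw [hF]
        refine Complex.norm_eq_one_of_pow_eq_one (n := 2) ?_ two_ne_zero
        rw [← Units.val_pow_eq_pow_val, ← map_pow,
          show (⟨u, huE⟩ : ↥(Subgroup.zpowers x)) ^ 2 = 1 from Subtype.ext (by rw [pow_two]; exact huu),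
          map_one, Units.val_one]
      have h1 := hmy ⟨u, huE⟩ fun h => hu1 (congrArg Subtype.val h)
      rw [show (χ : G → ℂ) ((⟨u, huE⟩ : ↥(Subgroup.zpowers x)) : G) = (w : ℂ) from hw] at h1
      have h2 : ‖(w : ℂ)‖ ≤ ((m : ℕ) : ℝ) := by
        rw [h1, ← hma, Nat.cast_sum]
        refine (norm_sum_le _ _).trans (Finset.sum_le_sum fun ν _ => ?_)
        rw [norm_mul, hnorm, mul_one, RCLike.norm_natCast]
      rw [Complex.norm_intCast, ← Int.cast_abs, Int.abs_eq_natAbs] at h2
      exact_mod_cast h2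
    by_cases hw0 : w = 0
    · exact ⟨0, by norm_num, by rw [hw, hw0]; simp⟩
    obtain ⟨f', -, hf', hfd⟩ := Char.irr_degree_dvd_card χ.2
    rw [D.deg χ] at hf'
    obtain rfl : f' = dg χ := by exact_mod_cast hf'.symm
    have hnp : Nat.Coprime (dg χ) p := (hp.out.coprime_iff_not_dvd.2 fun h => by
      have h1 : (p : ℤ) ∣ (dg χ : ℤ) := by exact_mod_cast h
      have h2 := Int.natAbs_dvd_natAbs.2 (dvd_sub h1 hmod)
      rw [sub_sub_cancel, Int.natAbs_natCast] at h2
      rcases hs with hs | hs <;> rw [hs] at h2 <;>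
        exact hp.out.one_lt.ne' (Nat.dvd_one.1 (by simpa using h2))).symm
    rw [hcard, mul_assoc] at hfd
    obtain ⟨k₁, k₂, hk₁, hk₂, hk⟩ := Nat.dvd_mul.1 (hnp.dvd_of_dvd_mul_left hfd)
    obtain ⟨j, hjb, rfl⟩ := (Nat.dvd_prime_pow Nat.prime_two).1 hk₁
    have hjw : 2 ^ j ≤ m := by
      have h1 := dvd_value (D.deg χ) hw (hk ▸ dvd_mul_right (2 ^ j) k₂) (by
        rw [hidx]
        exact Nat.Coprime.pow_left j (Nat.Coprime.mul_right
          ((Nat.coprime_primes Nat.prime_two hp.out).2 (by omega)) (Nat.prime_two.coprime_iff_not_dvd.2 hodd2)))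
      have h2 := Int.natAbs_dvd_natAbs.2 h1
      rw [Int.natAbs_natCast] at h2
      exact (Nat.le_of_dvd (Int.natAbs_pos.2 hw0) h2).trans hwm
    have hfm : dg χ ≤ m * d := by
      rw [← hk]; exact Nat.mul_le_mul hjw (Nat.le_of_dvd (by omega) hk₂)
    rcases hs with hs | hs <;> rw [hs] at hm hmod
    · have hm' : m * p + 1 = dg χ + p := by
        apply Nat.cast_injective (R := ℂ); push_cast at hm ⊢; linear_combination hm
      have hm2 : m ≤ 2 := by
        by_contra h
        rw [hpe] at hm'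
        have := Nat.mul_le_mul_right e (show 3 ≤ m by omega)
        have h4 : m * (2 * e + 1) = m * (e + 1) + m * e := by ring
        rw [hde1] at hfm
        omega
      have hm2' : 2 ≤ m := by
        by_contra h
        obtain ⟨k, hk'⟩ := hmod
        interval_cases m <;> omega
      obtain rfl : m = 2 := by omega
      have hfeq : dg χ = 2 * d := by omega
      obtain ⟨wh, hwh⟩ : (2 : ℤ) ∣ w := by
        obtain ⟨r, hr⟩ := h2f
        exact ⟨(iw : ℤ) - r, by rw [hwi, hr]; push_cast; ring⟩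
      have hw2 : w * w = 4 := by
        have : w = 2 ∨ w = -2 := by omega
        rcases this with h | h <;> rw [h] <;> norm_num
      refine ⟨2, le_rfl, ?_⟩
      have hw2' : (w : ℂ) ^ 2 = 4 := by rw [pow_two]; exact_mod_cast hw2
      have hd0 : (d : ℂ) ≠ 0 := Nat.cast_ne_zero.2 (by omega)
      rw [hw, hs, hw2', hfeq]
      push_cast
      field_simp
      ring
    · exfalso
      have hm' : m * p + p = dg χ + 1 := by
        apply Nat.cast_injective (R := ℂ); push_cast at hm ⊢; linear_combination hm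
      rw [hpe] at hm'
      rw [hde1] at hfm
      have h4 : m * (2 * e + 1) = m * (e + 1) + m * e := by ring
      omega
  choose q' hq'le hq' using hcls
  have hcoef := D.coeff S huu (D.not_dvd_involution huo) hvP hv1 hθ
  rw [hθu, ← hC, hCc, hcard, ← Finset.sum_attach X,
    Finset.sum_congr rfl (fun χ _ => hq' χ.1 χ.2 : ∀ χ ∈ X.attach,
      (sg χ.1 : ℂ) * ((χ.1 : Cfsg.IrrCharacter G) : G → ℂ) u ^ 2 / (dg χ.1 : ℂ) =
        (q' χ.1 χ.2 : ℂ) / (d : ℂ)), ← Finset.sum_div, ← Nat.cast_sum] at hcoef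
  set Q := ∑ χ ∈ X.attach, q' χ.1 χ.2
  set N := (conjPairs u v).card
  have hQ : Q ≤ X.card * 2 := by
    rw [← Finset.card_attach, ← smul_eq_mul, ← Finset.sum_const]
    exact Finset.sum_le_sum fun χ _ => hq'le _ _
  have heq : p * (d + 1 + Q) = 2 ^ (i + 1 + c) * N := by
    have hd0 : (d : ℂ) ≠ 0 := Nat.cast_ne_zero.2 (by omega)
    refine Nat.eq_of_mul_eq_mul_left (pow_pos (show 0 < 2 by norm_num) (i + 1 + c)) (Nat.cast_injective (R := ℂ) ?_)
    push_cast at hcoef ⊢
    field_simp at hcoef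
    linear_combination (2 : ℂ) ^ (i + 1 + c) * hcoef
  have hle : 2 ^ (i + 1 + c) ≤ d + 1 + Q := by
    refine Nat.le_of_dvd (by omega) ((Nat.Coprime.pow_left _
      ((Nat.coprime_primes Nat.prime_two hp.out).2 (by omega))).dvd_of_dvd_mul_left
      (heq ▸ dvd_mul_right _ _))
  have hX := D.cardX
  have hbig : 8 * (e * e * e) ≤ 2 ^ (i + 1 + c) := by
    calc 8 * (e * e * e) = 2 ^ (3 * (i + 1)) := by rw [he]; ring
      _ ≤ 2 ^ (i + 1 + c) := Nat.pow_le_pow_right (by norm_num) (by omega)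
  have he3 : e ≤ e * e * e := by
    calc e = e * 1 * 1 := by ring
      _ ≤ e * e * e := Nat.mul_le_mul (Nat.mul_le_mul_left e (by omega)) (by omega)
  omega

end Cfsg.Agent.SmallGroups.SelfCentPrime.Cofactor
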