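import Cfsg.Agent.SmallGroups.SelfCentPrime.Cofactor.Common

/-!
# A sum of two linear characters of a cyclic Sylow subgroup that is invariant under fusion

The two characters are inverse to each other.
-/

set_option linter.style.haveILetI false
set_option linter.unusedSectionVars false

noncomputable section

namespace Cfsg.Agent.SmallGroups.SelfCentPrime.Cofactor

open scoped Classical ComplexConjugate
open Cfsg Finset

universe u

/-- A pair of roots of unity of odd order is determined by its sum. -/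
theorem pair_of_sum {α β γ δ : ℂˣ} {N : ℕ} (hN : Odd N) (hα : α ^ N = 1) (hβ : β ^ N = 1)
    (hγ : γ ^ N = 1) (hδ : δ ^ N = 1) (h : (α : ℂ) + β = (γ : ℂ) + δ) :
    (γ = α ∧ δ = β) ∨ (γ = β ∧ δ = α) := by
  have hc : ∀ a : ℂˣ, a ^ N = 1 → conj (a : ℂ) = (a : ℂ)⁻¹ := by
    intro a ha
    refine (Complex.inv_eq_conj ?_).symm
    exact Complex.norm_eq_one_of_pow_eq_one (by rw [← Units.val_pow_eq_pow_val, ha, Units.val_one])
      hN.pos.ne'
  have hs : (α : ℂ) + β ≠ 0 := by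
    intro h0
    have h1 : (α : ℂ) ^ N = (-(β : ℂ)) ^ N := by rw [eq_neg_of_add_eq_zero_left h0]
    rw [hN.neg_pow, ← Units.val_pow_eq_pow_val, ← Units.val_pow_eq_pow_val, hα, hβ, Units.val_one] at h1
    norm_num at h1
  have h' := congrArg conj h
  rw [map_add, map_add, hc α hα, hc β hβ, hc γ hγ, hc δ hδ] at h'
  have hp : (α : ℂ) * β = (γ : ℂ) * δ := by
    have hα0 := α.ne_zero
    have hβ0 := β.ne_zero
    have hγ0 := γ.ne_zero
    have hδ0 := δ.ne_zero
    field_simp at h'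
    refine mul_left_cancel₀ hs ?_
    linear_combination -h' + (α : ℂ) * β * h
  have h2 : ((γ : ℂ) - α) * ((γ : ℂ) - β) = 0 := by
    linear_combination hp - (γ : ℂ) * h
  rcases mul_eq_zero.1 h2 with h3 | h3 <;> rw [sub_eq_zero] at h3
  · refine .inl ⟨Units.ext h3, Units.ext ?_⟩
    linear_combination -h - h3
  · refine .inr ⟨Units.ext h3, Units.ext ?_⟩
    linear_combination -h - h3

/-- A unit residue of order prime to `r` that is `1` modulo `r`. -/
theorem dvd_sub_one {r : ℕ} (hr : r.Prime) {k M : ℕ} (hM : ¬ r ∣ M) {a : ℤ}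
    (h : (r : ℤ) ^ k ∣ a ^ M - 1) (h1 : (r : ℤ) ∣ a - 1) : (r : ℤ) ^ k ∣ a - 1 := by
  have hgeom : (∑ i ∈ Finset.range M, a ^ i) * (a - 1) = a ^ M - 1 := geom_sum_mul a M
  have hS : ¬ (r : ℤ) ∣ ∑ i ∈ Finset.range M, a ^ i := by
    intro hd
    have hd' : (r : ℤ) ∣ ∑ i ∈ Finset.range M, (a ^ i - 1) :=
      Finset.dvd_sum fun i _ => h1.trans (sub_one_dvd_pow_sub_one a i)
    have := dvd_sub hd hd'
    rw [← Finset.sum_sub_distrib] at this
    simp only [sub_sub_cancel, Finset.sum_const, Finset.card_range, nsmul_eq_mul, mul_one] at this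
    exact hM (by exact_mod_cast this)
  rw [← hgeom] at h
  exact (Nat.prime_iff_prime_int.1 hr).pow_dvd_of_dvd_mul_left k hS h

variable {G : Type u} [Group G] [Finite G] [IsSimpleGroup G]

theorem pair_product_eq_one (hG : ¬ IsMulCommutative G) {r : ℕ} [hr : Fact r.Prime] (hr2 : r ≠ 2)
    (R : Sylow r G) {s : G} (hs : (R : Subgroup G) = Subgroup.zpowers s) (hdvd : r ∣ Nat.card G)
    {k : ℕ} (hk : orderOf s = r ^ k) {f : G → ℂ} (hf : IsClassFunction G f) {α β : ℂˣ}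
    (hα : α ^ r ^ k = 1) (hβ : β ^ r ^ k = 1)
    (hval : ∀ i : ℕ, s ^ i ≠ 1 → f (s ^ i) = ((α ^ i : ℂˣ) : ℂ) + ((β ^ i : ℂˣ) : ℂ)) : α * β = 1 := by
  classical
  set N := Subgroup.normalizer ((R : Subgroup G) : Set G) with hN
  obtain ⟨g, hgN, hgC⟩ := SetLike.not_le_iff_exists.1
    (SmallGroups.not_normalizer_le_centralizer hG hdvd R)
  have hsR : s ∈ (R : Subgroup G) := hs ▸ Subgroup.mem_zpowers s
  have hmem := (Subgroup.mem_normalizer_iff.1 hgN s).1 hsR
  rw [hs, ← mem_powers_iff_mem_zpowers, Submonoid.mem_powers_iff] at hmem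
  obtain ⟨a, ha⟩ := hmem
  have hiter : ∀ i : ℕ, g ^ i * s * (g ^ i)⁻¹ = s ^ a ^ i := by
    intro i
    induction i with
    | zero => simp
    | succ i ih =>
      rw [pow_succ' g, pow_succ a i, mul_comm (a ^ i) a, pow_mul, ha, conj_pow, ← ih]
      group
  -- the index of `R` in its normalizer is prime to `r`
  set M := (R : Subgroup G).relIndex N with hM
  have hMr : ¬ r ∣ M := fun h => R.not_dvd_index
    (h.trans ⟨N.index, (Subgroup.relIndex_mul_index Subgroup.le_normalizer).symm⟩)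
  have hgM : g ^ M ∈ (R : Subgroup G) := by
    haveI : ((R : Subgroup G).subgroupOf N).Normal :=
      Subgroup.normal_subgroupOf_iff_le_normalizer Subgroup.le_normalizer |>.2 le_rfl
    have h1 := Subgroup.pow_index_mem ((R : Subgroup G).subgroupOf N) ⟨g, hgN⟩
    exact h1
  have haM : (r : ℤ) ^ k ∣ (a : ℤ) ^ M - 1 := by
    have h1 : s ^ a ^ M = s ^ 1 := by
      rw [← hiter M, pow_one]
      rw [hs] at hgM
      obtain ⟨j, hj⟩ := Subgroup.mem_zpowers_iff.1 hgM
      rw [← hj]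
      group
    have h2 := Nat.ModEq.symm (pow_eq_pow_iff_modEq.1 h1)
    rw [hk] at h2
    have h3 := (Nat.modEq_iff_dvd).1 h2
    push_cast at h3
    exact h3
  have ha1 : ¬ (r : ℤ) ^ k ∣ (a : ℤ) - 1 := by
    intro h
    apply hgC
    have h1 : s ^ a = s := by
      nth_rw 2 [← pow_one s]
      rw [pow_eq_pow_iff_modEq, hk, Nat.ModEq.comm, Nat.modEq_iff_dvd]
      push_cast
      exact h
    rw [ha] at h1
    rw [hs, Subgroup.mem_centralizer_iff]
    intro z hz
    obtain ⟨j, rfl⟩ := Subgroup.mem_zpowers_iff.1 hz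
    exact (Commute.zpow_left (show Commute s g from (mul_inv_eq_iff_eq_mul.1 h1).symm) j).eq
  have har : ¬ (r : ℤ) ∣ (a : ℤ) - 1 := fun h => ha1 (dvd_sub_one hr.out hMr haM h)
  have hk0 : k ≠ 0 := by rintro rfl; exact ha1 (by simp)
  have hs1 : s ^ 1 ≠ 1 := by
    rw [pow_one]; intro h
    rw [h, orderOf_one] at hk
    exact (Nat.one_lt_pow hk0 hr.out.one_lt).ne hk
  have hsa : s ^ a ≠ 1 := by
    intro h
    rw [h, eq_comm, conj_eq_one_iff] at ha
    exact hs1 (by rw [pow_one]; exact ha)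
  -- the pairs agree
  have hsum : (α : ℂ) + β = ((α ^ a : ℂˣ) : ℂ) + ((β ^ a : ℂˣ) : ℂ) := by
    rw [← hval a hsa, ha, hf s g]
    have := hval 1 hs1
    rw [pow_one, pow_one, pow_one] at this
    exact this.symm
  have hodd : Odd (r ^ k) := (hr.out.odd_of_ne_two hr2).pow
  have hpow : ∀ γ : ℂˣ, γ ^ r ^ k = 1 → (γ ^ a) ^ r ^ k = 1 := fun γ h => by
    rw [← pow_mul, mul_comm, pow_mul, h, one_pow]
  have hone : ∀ γ : ℂˣ, γ ^ r ^ k = 1 → ∀ c : ℤ, γ ^ c = 1 → ¬ (r : ℤ) ∣ c → γ = 1 := by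
    intro γ h c hc hrc
    have h1 : orderOf γ ∣ r ^ k := orderOf_dvd_of_pow_eq_one h
    obtain ⟨j, -, hj⟩ := (Nat.dvd_prime_pow hr.out).1 h1
    rcases Nat.eq_zero_or_pos j with hj0 | hj0
    · exact orderOf_eq_one_iff.1 (by rw [hj, hj0, pow_zero])
    · refine absurd ?_ hrc
      have h2 := orderOf_dvd_iff_zpow_eq_one.2 hc
      rw [hj, Nat.cast_pow] at h2
      exact (dvd_pow_self _ hj0.ne').trans h2
  rcases pair_of_sum hodd hα hβ (hpow α hα) (hpow β hβ) hsum with ⟨h1, h2⟩ | ⟨h1, h2⟩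
  · have fix1 : ∀ γ : ℂˣ, γ ^ a = γ → γ ^ ((a : ℤ) - 1) = 1 := fun γ h => by
      rw [zpow_sub, zpow_natCast, zpow_one, h, mul_inv_cancel]
    rw [hone α hα _ (fix1 α h1) har, hone β hβ _ (fix1 β h2) har, one_mul]
  · have h3 : α ^ ((a : ℤ) * a - 1) = 1 := by
      rw [zpow_sub, zpow_one, zpow_mul, zpow_natCast, zpow_natCast, h1, h2, mul_inv_cancel]
    by_cases hr1 : (r : ℤ) ∣ (a : ℤ) * a - 1
    · have haM2 : (r : ℤ) ^ k ∣ ((a : ℤ) * a) ^ M - 1 := by
        rw [show ((a : ℤ) * a) ^ M - 1 = ((a : ℤ) ^ M - 1) * ((a : ℤ) ^ M + 1) by rw [mul_pow]; ring]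
        exact haM.mul_right _
      have h4 := dvd_sub_one hr.out hMr haM2 hr1
      rw [show (a : ℤ) * a - 1 = ((a : ℤ) - 1) * ((a : ℤ) + 1) by ring] at h4
      obtain ⟨c, hc⟩ := (Nat.prime_iff_prime_int.1 hr.out).pow_dvd_of_dvd_mul_left k har h4
      have h5 : α ^ ((a : ℤ) + 1) = 1 := by
        rw [hc, zpow_mul, show ((r : ℤ) ^ k) = ((r ^ k : ℕ) : ℤ) by push_cast; ring, zpow_natCast, hα,
          one_zpow]
      rw [zpow_add, zpow_natCast, zpow_one, h1, mul_comm] at h5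
      exact h5
    · have hα1 := hone α hα _ h3 hr1
      rw [hα1, one_pow] at h1
      rw [hα1, ← h1, one_mul]

end Cfsg.Agent.SmallGroups.SelfCentPrime.Cofactor
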