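import Cfsg.Agent.SmallGroups.SelfCentPrime.Cofactor.PlusShape
import Cfsg.Agent.SmallGroups.SelfCentPrime.Cofactor.Pairing
import Cfsg.Agent.BlkChar.GalAvg

/-!
# The exceptional degree `e`: the complement is a full centralizer and `1 + n p = p + 1`
-/

set_option linter.style.haveILetI false
set_option linter.unusedSectionVars false

noncomputable section

namespace Cfsg.Agent.SmallGroups.SelfCentPrime.Cofactor

open scoped Classical ComplexConjugate
open Cfsg Finset

universe u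

variable {G : Type u} [Group G] [Fintype G] [IsSimpleGroup G]

/-- An involution never acts as `-1` in an irreducible character of degree `> 1`. -/
theorem value_ne_neg_degree {χ : G → ℂ} (hχ : Cfsg.IsIrrCharacter G χ) {f : ℕ} (hf : χ 1 = f)
    (hf1 : 1 < f) {g : G} (hg : orderOf g = 2) : χ g ≠ -(f : ℂ) := by
  intro hval
  obtain ⟨K, hK, hKmem⟩ := Char.isCharacter_exists_kernel
    (Char.isCharacter_mul (Char.isCharacter_of_irr hχ) (Char.isCharacter_conjFun (Char.isCharacter_of_irr hχ)))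
  have hgK : g ∈ K := (hKmem g).2 (by
    simp only [Pi.mul_apply, hval, hf, map_neg, map_natCast, neg_mul_neg])
  rcases hK.eq_bot_or_eq_top with h | h
  · rw [h, Subgroup.mem_bot] at hgK
    rw [hgK, orderOf_one] at hg
    omega
  · have h1 := Char.classInner_irr_self hχ
    have hconst : ∀ a, χ a * conj (χ a) = (f : ℂ) * f := fun a => by
      have := (hKmem a).1 (h ▸ Subgroup.mem_top a)
      simpa [hf] using this
    rw [Cfsg.classInner, Finset.sum_congr rfl fun a _ => hconst a, Finset.sum_const, Finset.card_univ,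
      nsmul_eq_mul, ← Nat.card_eq_fintype_card, inv_mul_cancel_left₀ Char.card_ne_zero_complex] at h1
    have h2 : f * f = 1 := by exact_mod_cast h1
    nlinarith

variable {p : ℕ} [hp : Fact p.Prime]
variable {P : Sylow p G} {x : G} {q b g₀ e t d : ℕ} {X Y : Finset (Cfsg.IrrCharacter G)}
  {sg : Cfsg.IrrCharacter G → ℤ} {dg : Cfsg.IrrCharacter G → ℕ}
  (hG : ¬ IsMulCommutative G) (D : Data P q b g₀ e t 1 d X Y sg dg) (S : Setup P x e)

include D S in
/-- No involution commutes with a generator of the complement. -/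
theorem Data.plus_no_involution (he : Odd e) {z : G} (hz : orderOf z = 2) : ¬ Commute z x := by
  intro hzx
  have hde := D.d_eq S
  obtain ⟨θ, hθ⟩ := D.exists_mem
  obtain ⟨u, ho, hu⟩ := Brauer.OrderP.exists_gen P S.cardP
  have huP : u ∈ (P : Subgroup G) := hu ▸ Subgroup.mem_zpowers u
  have hmem := (Subgroup.mem_normalizer_iff.1 S.mem u).1 huP
  rw [hu, ← mem_powers_iff_mem_zpowers, Submonoid.mem_powers_iff] at hmem
  obtain ⟨a₀, ha₀⟩ := hmem
  have hiter : ∀ i : ℕ, x ^ i * u * (x ^ i)⁻¹ = u ^ a₀ ^ i := by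
    intro i
    induction i with
    | zero => simp
    | succ i ih =>
      rw [pow_succ' x, pow_succ a₀ i, mul_comm (a₀ ^ i) a₀, pow_mul, ha₀, conj_pow, ← ih]
      group
  set a : ZMod p := (a₀ : ZMod p) with ha
  have hup : u ^ p = 1 := by rw [← ho]; exact pow_orderOf_eq_one u
  have hu1 : u ≠ 1 := fun h => by rw [h, orderOf_one] at ho; exact hp.out.ne_one ho.symm
  have ha_inj : ∀ i : ℕ, a ^ i = 1 → e ∣ i := by
    intro i hi
    have h1 : x ^ i * u * (x ^ i)⁻¹ = u := by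
      rw [hiter i]
      conv_rhs => rw [← pow_one u]
      rw [pow_eq_pow_iff_modEq, ho, ← ZMod.natCast_eq_natCast_iff, Nat.cast_pow, ← ha, hi, Nat.cast_one]
    rw [← S.order]
    refine orderOf_dvd_of_pow_eq_one ?_
    by_contra h2
    exact hu1 (S.eq_one_of_commute (pow_mem (Subgroup.mem_zpowers x) i) h2 huP (mul_inv_eq_iff_eq_mul.1 h1))
  have ha0 : a ≠ 0 := by
    intro h
    have hdvd : p ∣ a₀ := (ZMod.natCast_eq_zero_iff a₀ p).1 h
    obtain ⟨c, rfl⟩ := hdvd
    rw [pow_mul, hup, one_pow, eq_comm, conj_eq_one_iff] at ha₀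
    exact hu1 ha₀
  set ζ : ℂ := Complex.exp (2 * Real.pi * Complex.I / p)
  have hζ : IsPrimitiveRoot ζ p := Complex.isPrimitiveRoot_exp p hp.out.ne_zero
  have hζ0 : ∑ j : ZMod p, ζ ^ j.val = 0 := by
    have h : ζ * ∑ j : ZMod p, ζ ^ j.val = ∑ j : ZMod p, ζ ^ j.val := by
      rw [Finset.mul_sum]
      refine Fintype.sum_equiv (Equiv.addLeft (1 : ZMod p)) _ _ fun j => ?_
      rw [Equiv.coe_addLeft, pow_val_add hζ.pow_eq_one, ZMod.val_one, pow_one]
    have h2 : (ζ - 1) * ∑ j : ZMod p, ζ ^ j.val = 0 := by linear_combination h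
    exact (mul_eq_zero.1 h2).resolve_left (sub_ne_zero.2 (hζ.ne_one hp.out.one_lt))
  have hpow : ∀ k j : ZMod p, (ζ ^ k.val) ^ j.val = ζ ^ (k * j).val := by
    intro k j
    rw [← pow_mul, ZMod.val_mul]
    exact pow_eq_pow_mod _ hζ.pow_eq_one
  set Sg : G → ZMod p → ℂ := fun w k => ∑ j : ZMod p, (ζ ^ k.val) ^ j.val * (θ : G → ℂ) (w * u ^ j.val)
  have htot : ∀ w, ∑ k, Sg w k = (p : ℂ) * (θ : G → ℂ) w := by
    intro w
    simp only [Sg, hpow]
    rw [Finset.sum_comm, Finset.sum_eq_single (0 : ZMod p)]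
    · simp [ZMod.val_zero, ZMod.card]
    · intro j _ hj
      rw [← Finset.sum_mul]
      refine mul_eq_zero_of_left ?_ _
      rw [← hζ0]
      exact Fintype.sum_equiv (Equiv.mulRight₀ j hj) _ _ fun k => rfl
    · exact fun h => absurd (Finset.mem_univ _) h
  have hinv : ∀ w, Commute w x → ∀ k, Sg w (k * a) = Sg w k := by
    intro w hw k
    simp only [Sg, hpow]
    refine Fintype.sum_equiv (Equiv.mulLeft₀ a ha0) _ _ fun j => ?_
    rw [show Equiv.mulLeft₀ a ha0 j = a * j from rfl, mul_assoc]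
    congr 1
    have h1 : x * (w * u ^ j.val) * x⁻¹ = w * u ^ (a * j).val := by
      have h2 : x * u ^ j.val * x⁻¹ = u ^ (a * j).val := by
        rw [← conj_pow, ← ha₀, ← pow_mul, pow_eq_pow_iff_modEq, ho, ← ZMod.natCast_eq_natCast_iff,
          Nat.cast_mul, ZMod.natCast_zmod_val, ZMod.natCast_zmod_val, ha]
      calc x * (w * u ^ j.val) * x⁻¹ = (x * w) * u ^ j.val * x⁻¹ := by group
        _ = w * (x * u ^ j.val * x⁻¹) := by rw [← hw.eq]; group
        _ = w * u ^ (a * j).val := by rw [h2]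
    rw [← h1, Char.irr_isClassFunction θ.2]
  have hζp : ∀ k : ZMod p, (ζ ^ k.val) ^ p = 1 := fun k => by
    rw [← pow_mul, mul_comm, pow_mul, hζ.pow_eq_one, one_pow]
  have hM : ∀ k, ∃ m : ℕ, Sg 1 k = (p : ℂ) * m := by
    intro k
    simp only [Sg, one_mul]
    exact exists_nat_sum (Char.isCharacter_of_irr θ.2) hup (hζp k)
  choose m hm using hM
  have hp0 : (p : ℂ) ≠ 0 := Nat.cast_ne_zero.2 hp.out.ne_zero
  have hmtot : ∑ k, m k = e := by
    apply Nat.cast_injective (R := ℂ)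
    push_cast
    refine mul_left_cancel₀ hp0 ?_
    rw [Finset.mul_sum, ← Finset.sum_congr rfl fun k _ => hm k, htot 1, D.deg θ, D.degY θ hθ, hde]
  have hm0 : m 0 = 0 := by
    have h1 : Sg 1 0 = 0 := by
      simp only [Sg, ZMod.val_zero, pow_zero, one_pow, one_mul]
      rw [← (D.plus_theta S hθ).1]
      refine Fintype.sum_bijective (fun j : ZMod p => (⟨u ^ j.val, pow_mem huP _⟩ : ↥(P : Subgroup G)))
        ((Nat.bijective_iff_injective_and_card _).2 ⟨?_, by
          rw [Nat.card_eq_fintype_card (α := ZMod p), ZMod.card, show Nat.card ↥(P : Subgroup G) = p from S.cardP]⟩)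
        _ _ fun j => rfl
      intro i j h
      have h2 : u ^ i.val = u ^ j.val := congrArg Subtype.val h
      rw [pow_eq_pow_iff_modEq, ho, ← ZMod.natCast_eq_natCast_iff, ZMod.natCast_zmod_val,
        ZMod.natCast_zmod_val] at h2
      exact h2
    rw [hm 0, mul_eq_zero, Nat.cast_eq_zero, Nat.cast_eq_zero] at h1
    exact h1.resolve_left hp.out.ne_zero
  obtain ⟨k₀, -, hk₀⟩ := Finset.exists_ne_zero_of_sum_ne_zero (f := m) (s := Finset.univ)
    (by have := D.two_le_e; omega)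
  have hk0 : k₀ ≠ 0 := fun h => hk₀ (h ▸ hm0)
  have hinvi : ∀ w, Commute w x → ∀ i : ℕ, Sg w (k₀ * a ^ i) = Sg w k₀ := by
    intro w hw i
    induction i with
    | zero => simp
    | succ i ih => rw [pow_succ, ← mul_assoc, hinv w hw, ih]
  set O := (Finset.range e).image fun i => k₀ * a ^ i with hO
  have hOc : O.card = e := by
    rw [hO, Finset.card_image_of_injOn, Finset.card_range]
    intro i hi j hj hij
    have h := mul_left_cancel₀ hk0 hij
    have hi' : i < e := Finset.mem_range.1 hi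
    have hj' : j < e := Finset.mem_range.1 hj
    rcases le_total i j with hle | hle
    · have h1 : a ^ (j - i) = 1 := by
        refine mul_left_cancel₀ (pow_ne_zero i ha0) ?_
        rw [← pow_add, Nat.add_sub_cancel' hle, mul_one]; exact h.symm
      have := Nat.eq_zero_of_dvd_of_lt (ha_inj _ h1) (by omega)
      omega
    · have h1 : a ^ (i - j) = 1 := by
        refine mul_left_cancel₀ (pow_ne_zero j ha0) ?_
        rw [← pow_add, Nat.add_sub_cancel' hle, mul_one]; exact h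
      have := Nat.eq_zero_of_dvd_of_lt (ha_inj _ h1) (by omega)
      omega
  have hmO : ∀ k ∈ O, m k = m k₀ := by
    intro k hk
    obtain ⟨i, -, rfl⟩ := Finset.mem_image.1 hk
    have h := hinvi 1 (Commute.one_left x) i
    rw [hm, hm] at h
    exact_mod_cast mul_left_cancel₀ hp0 h
  have hsupp : ∀ k, k ∉ O → m k = 0 := by
    intro k hk
    have h := Finset.sum_le_univ_sum_of_nonneg (f := m) (fun _ => Nat.zero_le _) (s := insert k O)
    rw [hmtot, Finset.sum_insert hk, Finset.sum_congr rfl hmO, Finset.sum_const, hOc, smul_eq_mul] at h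
    have := Nat.le_mul_of_pos_right e (Nat.pos_of_ne_zero hk₀)
    omega
  have hsum : (p : ℂ) * (θ : G → ℂ) z = (e : ℂ) * Sg z k₀ := by
    rw [← htot z, ← Finset.sum_subset (Finset.subset_univ O) (fun k _ hk => by
        have h0 : Sg 1 k = 0 := by rw [hm k, hsupp k hk, Nat.cast_zero, mul_zero]
        simp only [Sg, one_mul] at h0
        exact sum_mul_eq_zero (Char.isCharacter_of_irr θ.2) hup (hζp k) h0 z),
      Finset.sum_congr rfl (fun k hk => by
        obtain ⟨i, -, rfl⟩ := Finset.mem_image.1 hk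
        exact hinvi z hzx i : ∀ k ∈ O, Sg z k = Sg z k₀), Finset.sum_const, hOc, nsmul_eq_mul]
  obtain ⟨w, hw, i, hi, hwi⟩ := Exceptional.exists_involution_value (Char.isCharacter_of_irr θ.2)
    (show (θ : G → ℂ) 1 = (e : ℂ) by rw [D.deg θ, D.degY θ hθ, hde]) hz
  have hint : IsIntegral ℤ (Sg z k₀) :=
    IsIntegral.sum _ fun j _ => (((hζ.isIntegral hp.out.pos).pow _).pow _).mul
      (Char.isCharacter_isIntegral (Char.isCharacter_of_irr θ.2) _)
  have he0 : (e : ℂ) ≠ 0 := Nat.cast_ne_zero.2 S.e_pos.ne'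
  obtain ⟨c, hc⟩ := Char.exists_int_of_isIntegral_rat (q := ((p : ℚ) * w) / e) (by
    push_cast
    rw [← hw, hsum, mul_div_cancel_left₀ _ he0]
    exact hint)
  rw [div_eq_iff (Nat.cast_ne_zero.2 S.e_pos.ne')] at hc
  have hc' : (p : ℤ) * w = c * e := by exact_mod_cast hc
  have hew : (e : ℤ) ∣ w := by
    refine Int.dvd_of_dvd_mul_right_of_gcd_one (b := (p : ℤ)) ⟨c, by rw [hc']; ring⟩ ?_
    rw [Int.gcd_natCast_natCast]
    refine ((hp.out.coprime_iff_not_dvd).2 fun h => ?_).symm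
    have := Nat.le_of_dvd S.e_pos h
    have h2 := Nat.le_of_dvd (by have := D.three_le_p; omega) S.e_dvd
    have := hp.out.two_le
    omega
  obtain ⟨l, hl⟩ := hew
  obtain ⟨h', hh'⟩ := he
  have hwne : w ≠ 0 := by omega
  have hwe : w = e ∨ w = -(e : ℤ) := by
    have hle : -(e : ℤ) ≤ w ∧ w ≤ e := by omega
    have h2 := D.two_le_e
    rcases lt_trichotomy l 0 with h | h | h
    · have : (e : ℤ) * l ≤ e * (-1) := mul_le_mul_of_nonneg_left (by omega) (Int.natCast_nonneg _)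
      right; omega
    · subst h; simp at hl; exact absurd hl hwne
    · have : (e : ℤ) * 1 ≤ e * l := mul_le_mul_of_nonneg_left (by omega) (Int.natCast_nonneg _)
      left; omega
  have hθ1 : (θ : G → ℂ) 1 = (e : ℂ) := by rw [D.deg θ, D.degY θ hθ, hde]
  rcases hwe with h | h <;> rw [h] at hw
  · exact Exceptional.value_ne_degree θ.2 hθ1 D.two_le_e hz (by exact_mod_cast hw)
  · exact value_ne_neg_degree θ.2 hθ1 D.two_le_e hz (by push_cast at hw; exact hw)

include hG D S in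
/-- The exceptional degree `e`. -/
theorem Data.plus_conclusion : ∃ k : ℕ, q = 2 ∧ p + 1 = 2 ^ k ∧ Nat.card (Sylow p G) = 1 + 1 * p := by
  have hde := D.d_eq S
  obtain ⟨rfl, he3, X1, a, hX1c, hX1, hX1a, hcol, hsum1⟩ := D.plus_shape S
  have hte := D.te
  have hp3 := D.three_le_p
  have hpe : p = 2 * e + 1 := by omega
  have hodd : Odd e := ⟨X1.card, hX1c.symm⟩
  -- the order
  have hg0 : g₀ = e := by
    obtain ⟨c, hc⟩ := hde ▸ D.d_dvd
    have := D.small
    rcases Nat.lt_or_ge c 2 with h | h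
    · interval_cases c
      · have := D.one_le_g; omega
      · omega
    · have := Nat.mul_le_mul_left e h
      omega
  subst g₀
  obtain ⟨χ₁, hχ₁⟩ : X1.Nonempty := Finset.card_pos.1 (by omega)
  have hdvd : p + 1 ∣ q ^ b := by
    obtain ⟨f, -, hf, hfd⟩ := Char.irr_degree_dvd_card χ₁.2
    rw [D.deg χ₁, (hX1 χ₁ hχ₁).2] at hf
    obtain rfl : f = p + 1 := by exact_mod_cast hf.symm
    rw [D.card] at hfd
    have h1 : Nat.Coprime (p + 1) p := by simp
    have h2 : Nat.Coprime (p + 1) e := by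
      rw [show p + 1 = 2 + 2 * e by omega, Nat.coprime_add_mul_right_left]
      exact Nat.coprime_two_left.2 hodd
    exact h1.dvd_of_dvd_mul_left (h2.dvd_of_dvd_mul_right hfd)
  obtain ⟨k, hkb, hk⟩ := (Nat.dvd_prime_pow D.qprime).1 hdvd
  have hq2 : q = 2 := by
    have h2 : 2 ∣ q ^ k := hk ▸ ⟨e + 1, by omega⟩
    exact ((Nat.prime_dvd_prime_iff_eq Nat.prime_two D.qprime).1 (Nat.prime_two.dvd_of_dvd_pow h2)).symm
  subst hq2
  refine ⟨k, rfl, hk, ?_⟩
  have hcard := D.card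
  have hreg : ∀ y ∈ Subgroup.zpowers x, ¬ p ∣ orderOf y := fun y hy => S.not_dvd_orderOf hy
  -- the pairs
  have hEc : Nat.card ↥(Subgroup.zpowers x) = e := by rw [Nat.card_zpowers, S.order]
  have hcomm : ∀ u v : ↥(Subgroup.zpowers x), u * v = v * u :=
    fun u v => (inferInstance : IsMulCommutative ↥(Subgroup.zpowers x)).is_comm.comm u v
  choose lin hlin using fun μ : Cfsg.IrrCharacter ↥(Subgroup.zpowers x) =>
    Char.irr_exists_monoidHom_of_comm hcomm μ.2
  set x' : ↥(Subgroup.zpowers x) := ⟨x, Subgroup.mem_zpowers x⟩ with hx'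
  have hx'e : x' ^ e = 1 := by rw [← hEc]; exact pow_card_eq_one'
  have hpair : ∀ χ ∈ X1, ∃ μ₁ μ₂, μ₁ ≠ μ₂ ∧ (∀ F : Cfsg.IrrCharacter ↥(Subgroup.zpowers x) → ℂ,
      ∑ μ, (a χ μ : ℂ) * F μ = F μ₁ + F μ₂) ∧ ∀ y, lin μ₁ y * lin μ₂ y = 1 := by
    intro χ hχ
    obtain ⟨hsum, hle, hval⟩ := hX1a χ hχ
    have hs : ((Finset.univ : Finset _).filter fun μ => a χ μ ≠ 0).card = 2 := by
      rw [← hsum, Finset.card_filter]
      exact Finset.sum_congr rfl fun μ _ => by have := hle μ; split_ifs <;> omega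
    obtain ⟨μ₁, μ₂, hne, hset⟩ := Finset.card_eq_two.1 hs
    have hF : ∀ F : Cfsg.IrrCharacter ↥(Subgroup.zpowers x) → ℂ,
        ∑ μ, (a χ μ : ℂ) * F μ = F μ₁ + F μ₂ := by
      intro F
      have h1 : ∀ μ, μ ∈ ({μ₁, μ₂} : Finset _) ↔ a χ μ ≠ 0 := fun μ => by rw [← hset]; simp
      rw [← Finset.sum_subset (Finset.subset_univ ({μ₁, μ₂} : Finset _)) (fun μ _ hμ => by
        rw [not_not.1 ((not_congr (h1 μ)).1 hμ), Nat.cast_zero, zero_mul]), Finset.sum_pair hne]
      have ha1 : a χ μ₁ = 1 := by have := (h1 μ₁).1 (by simp); have := hle μ₁; omega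
      have ha2 : a χ μ₂ = 1 := by have := (h1 μ₂).1 (by simp); have := hle μ₂; omega
      rw [ha1, ha2, Nat.cast_one, one_mul, one_mul]
    refine ⟨μ₁, μ₂, hne, hF, ?_⟩
    set f := lin μ₁ * lin μ₂ with hf
    have hf1 : f x' = 1 := by
      have ho : orderOf (f x') ∣ e := orderOf_dvd_of_pow_eq_one (by rw [← map_pow, hx'e, map_one])
      by_contra hne1
      obtain ⟨r, hr, hro⟩ := Nat.exists_prime_and_dvd (fun h => hne1 (orderOf_eq_one_iff.1 h))
      have hre : r ∣ e := hro.trans ho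
      haveI : Fact r.Prime := ⟨hr⟩
      have hr2 : r ≠ 2 := by rintro rfl; exact (Nat.not_even_iff_odd.2 hodd) (even_iff_two_dvd.2 hre)
      obtain ⟨c, hc⟩ : r ^ e.factorization r ∣ e := Nat.ordProj_dvd e r
      have hrc : ¬ r ∣ c := by
        intro h
        obtain ⟨c', rfl⟩ := h
        exact Nat.pow_succ_factorization_not_dvd (n := e) (by omega) hr ⟨c', by rw [pow_succ]; linear_combination hc⟩
      have hso : orderOf (x ^ c) = r ^ e.factorization r := by
        have hc0 : c ≠ 0 := by rintro rfl; exact hrc (dvd_zero r)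
        rw [orderOf_pow_of_dvd hc0 (by rw [S.order]; exact ⟨_, by rw [mul_comm]; exact hc⟩), S.order]
        exact Nat.div_eq_of_eq_mul_left (Nat.pos_of_ne_zero hc0) hc
      obtain ⟨R, hR⟩ := (IsPGroup.of_card (n := e.factorization r) (by rw [Nat.card_zpowers, hso]) :
        IsPGroup r ↥(Subgroup.zpowers (x ^ c))).exists_le_sylow
      obtain ⟨j, hj⟩ := R.2.exists_card_eq
      have hjd : r ^ j ∣ e := by
        have h1 := Subgroup.card_subgroup_dvd_card (R : Subgroup G)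
        rw [hj, hcard] at h1
        refine Nat.Coprime.dvd_of_dvd_mul_left ?_ h1
        refine Nat.Coprime.pow_left j (Nat.Coprime.mul_right ?_ (Nat.Coprime.pow_right b ?_))
        · refine (Nat.coprime_primes hr hp.out).2 ?_
          intro h
          have := Nat.le_of_dvd (by omega) hre
          omega
        · exact (Nat.coprime_primes hr Nat.prime_two).2 hr2
      have hjle : j ≤ e.factorization r := (hr.pow_dvd_iff_le_factorization (by omega)).1 hjd
      have hRs : (R : Subgroup G) = Subgroup.zpowers (x ^ c) := (Subgroup.eq_of_le_of_card_ge hR (by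
        rw [hj, Nat.card_zpowers, hso]; exact Nat.pow_le_pow_right hr.pos hjle)).symm
      have hk' : (lin μ₁ (x' ^ c)) ^ r ^ e.factorization r = 1 ∧ (lin μ₂ (x' ^ c)) ^ r ^ e.factorization r = 1 := by
        constructor <;>
        rw [← map_pow, ← pow_mul, mul_comm, ← hc, hx'e, map_one]
      have h1 := pair_product_eq_one hG hr2 R hRs (hre.trans ⟨p * 2 ^ b, by rw [hcard]; ring⟩) hso
        (Char.irr_isClassFunction χ.2) hk'.1 hk'.2 (fun i hi => by
          have hv := hval (x' ^ (c * i)) (fun h => hi (by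
            rw [← pow_mul]
            exact congrArg Subtype.val h))
          rw [hF (fun μ => (μ : ↥(Subgroup.zpowers x) → ℂ) (x' ^ (c * i))), hlin, hlin] at hv
          rw [← pow_mul, show x ^ (c * i) = ((x' ^ (c * i) : ↥(Subgroup.zpowers x)) : G) from rfl, hv,
            ← map_pow, ← map_pow, ← pow_mul])
      have h2 : f x' ^ c = 1 := by rw [← map_pow]; exact h1
      exact hrc (hro.trans (orderOf_dvd_of_pow_eq_one h2))
    intro y
    obtain ⟨i, hi⟩ := Subgroup.mem_zpowers_iff.1 y.2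
    have : y = x' ^ i := Subtype.ext (by rw [← hi]; simp [hx'])
    show f y = 1
    rw [this, map_zpow, hf1, one_zpow]
  haveI : Nonempty (Cfsg.IrrCharacter ↥(Subgroup.zpowers x)) := ⟨Char.trivialIrr _⟩
  choose! μ₁ μ₂ hμne hμF hμprod using hpair
  have hval : ∀ χ ∈ X1, ∀ y : ↥(Subgroup.zpowers x), y ≠ 1 →
      (χ : G → ℂ) y = (μ₁ χ : ↥(Subgroup.zpowers x) → ℂ) y + (μ₂ χ : ↥(Subgroup.zpowers x) → ℂ) y :=
    fun χ hχ y hy => ((hX1a χ hχ).2.2 y hy).trans (hμF χ hχ fun μ => (μ : ↥(Subgroup.zpowers x) → ℂ) y)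
  have hconjl : ∀ (μ : Cfsg.IrrCharacter ↥(Subgroup.zpowers x)) (y : ↥(Subgroup.zpowers x)),
      conj ((μ : ↥(Subgroup.zpowers x) → ℂ) y) = (((lin μ y)⁻¹ : ℂˣ) : ℂ) := by
    intro μ y
    rw [hlin μ y, Units.val_inv_eq_inv_val, eq_comm]
    refine Complex.inv_eq_conj (Complex.norm_eq_one_of_pow_eq_one (n := e) ?_ (by omega))
    rw [← Units.val_pow_eq_pow_val, ← map_pow, show y ^ e = 1 by rw [← hEc]; exact pow_card_eq_one',
      map_one, Units.val_one]
  -- the column of a generator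
  have hsq : ∀ y ∈ Subgroup.zpowers x, y ≠ 1 → y * y ≠ 1 →
      ∑ χ ∈ X1, (χ : G → ℂ) y * conj ((χ : G → ℂ) y) = (e : ℂ) - 2 := by
    intro y hy hy1 hy2
    set y' : ↥(Subgroup.zpowers x) := ⟨y, hy⟩
    have hy1' : y' ≠ 1 := fun h => hy1 (congrArg Subtype.val h)
    have hy2' : y' * y' ≠ 1 := fun h => hy2 (congrArg Subtype.val h)
    have hterm : ∀ χ ∈ X1, (χ : G → ℂ) y * conj ((χ : G → ℂ) y) =
        2 + ∑ μ, (a χ μ : ℂ) * (μ : ↥(Subgroup.zpowers x) → ℂ) (y' * y') := by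
      intro χ hχ
      rw [show (χ : G → ℂ) y = _ from hval χ hχ y' hy1', map_add, hconjl, hconjl,
        hμF χ hχ fun μ => (μ : ↥(Subgroup.zpowers x) → ℂ) (y' * y'), hlin, hlin, hlin, hlin,
        inv_eq_of_mul_eq_one_right (hμprod χ hχ y'),
        inv_eq_of_mul_eq_one_left (hμprod χ hχ y'), map_mul, map_mul, Units.val_mul, Units.val_mul]
      have h1 : ((lin (μ₁ χ) y' : ℂˣ) : ℂ) * ((lin (μ₂ χ) y' : ℂˣ) : ℂ) = 1 := by
        rw [← Units.val_mul, hμprod χ hχ y', Units.val_one]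
      linear_combination (2 : ℂ) * h1
    rw [Finset.sum_congr rfl hterm, Finset.sum_add_distrib, Finset.sum_comm, Finset.sum_const,
      nsmul_eq_mul]
    have hrow := Char.sum_irr_mul_conj (y' * y') (1 : ↥(Subgroup.zpowers x))
    rw [if_neg (fun h => hy2' (isConj_one_left.1 h)),
      Finset.sum_congr rfl (fun μ _ => by rw [Char.irr_degree_one_of_comm hcomm μ.2, map_one, mul_one] :
        ∀ μ ∈ (Finset.univ : Finset (Cfsg.IrrCharacter ↥(Subgroup.zpowers x))),
          (μ : ↥(Subgroup.zpowers x) → ℂ) (y' * y') * conj ((μ : ↥(Subgroup.zpowers x) → ℂ) 1) =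
          (μ : ↥(Subgroup.zpowers x) → ℂ) (y' * y')),
      ← Finset.add_sum_erase _ _ (Finset.mem_univ (Char.trivialIrr ↥(Subgroup.zpowers x))),
      trivialIrr_apply] at hrow
    have hc2 : (2 : ℂ) * X1.card + 1 = e := by exact_mod_cast hX1c
    rw [Finset.sum_congr rfl (fun μ _ => by rw [← Finset.sum_mul, ← Nat.cast_sum, hcol μ] :
      ∀ μ ∈ (Finset.univ : Finset (Cfsg.IrrCharacter ↥(Subgroup.zpowers x))),
        ∑ χ ∈ X1, (a χ μ : ℂ) * (μ : ↥(Subgroup.zpowers x) → ℂ) (y' * y') =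
        ((if μ = Char.trivialIrr ↥(Subgroup.zpowers x) then 0 else 1 : ℕ) : ℂ) *
          (μ : ↥(Subgroup.zpowers x) → ℂ) (y' * y')),
      ← Finset.add_sum_erase _ _ (Finset.mem_univ (Char.trivialIrr ↥(Subgroup.zpowers x))), if_pos rfl,
      Nat.cast_zero, zero_mul, zero_add, Finset.sum_congr rfl (fun μ hμ => by
        rw [if_neg (Finset.ne_of_mem_erase hμ), Nat.cast_one, one_mul] :
      ∀ μ ∈ (Finset.univ : Finset (Cfsg.IrrCharacter ↥(Subgroup.zpowers x))).erase
          (Char.trivialIrr ↥(Subgroup.zpowers x)),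
        ((if μ = Char.trivialIrr ↥(Subgroup.zpowers x) then 0 else 1 : ℕ) : ℂ) *
          (μ : ↥(Subgroup.zpowers x) → ℂ) (y' * y') = (μ : ↥(Subgroup.zpowers x) → ℂ) (y' * y'))]
    linear_combination hrow + hc2
  -- the centralizer of `x`
  have hCx : Nat.card ↥(Subgroup.centralizer ({x} : Set G)) = e := by
    set C := Subgroup.centralizer ({x} : Set G)
    have hCo : ¬ 2 ∣ Nat.card ↥C := by
      intro h
      haveI := Fact.mk Nat.prime_two
      obtain ⟨z, hz⟩ := exists_prime_orderOf_dvd_card' (G := ↥C) 2 h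
      exact D.plus_no_involution S hodd (z := (z : G)) (by rw [Subgroup.orderOf_coe, hz])
        (Subgroup.mem_centralizer_singleton_iff.1 z.2)
    have hCp : ¬ p ∣ Nat.card ↥C := by
      intro h
      obtain ⟨z, hz⟩ := exists_prime_orderOf_dvd_card' (G := ↥C) p h
      have hzo : orderOf (z : G) = p := by rw [Subgroup.orderOf_coe, hz]
      obtain ⟨Q, hQ⟩ := (IsPGroup.of_card (n := 1) (by rw [Nat.card_zpowers, hzo, pow_one]) :
        IsPGroup p ↥(Subgroup.zpowers (z : G))).exists_le_sylow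
      obtain ⟨g, hg⟩ := MulAction.exists_smul_eq G Q P
      have hzP : g * z * g⁻¹ ∈ (P : Subgroup G) := by
        rw [← hg, Sylow.coe_subgroup_smul]
        exact Subgroup.smul_mem_pointwise_smul (z : G) (MulAut.conj g) _ (hQ (Subgroup.mem_zpowers _))
      have hz1 : g * z * g⁻¹ ≠ 1 := by
        rw [Ne, conj_eq_one_iff]; intro h1; rw [h1, orderOf_one] at hzo; exact hp.out.ne_one hzo.symm
      have hmem : g * x * g⁻¹ ∈ (P : Subgroup G) := by
        rw [← S.centralizer_eq hzP hz1, Subgroup.mem_centralizer_singleton_iff]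
        have hzx := Subgroup.mem_centralizer_singleton_iff.1 z.2
        calc g * x * g⁻¹ * (g * z * g⁻¹) = g * (x * z) * g⁻¹ := by group
          _ = g * z * g⁻¹ * (g * x * g⁻¹) := by rw [← hzx]; group
      have h1 := Subgroup.orderOf_dvd_natCard _ hmem
      rw [show orderOf (g * x * g⁻¹) = e from
        (orderOf_injective (MulAut.conj g).toMonoidHom (MulAut.conj g).injective x).trans S.order,
        show Nat.card ↥(P : Subgroup G) = p from S.cardP] at h1
      rcases (Nat.dvd_prime hp.out).1 h1 with h2 | h2 <;> omega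
    have h1 := Subgroup.card_subgroup_dvd_card C
    rw [hcard] at h1
    have h2 : Nat.card ↥C ∣ e := Nat.Coprime.dvd_of_dvd_mul_left
      (Nat.Coprime.mul_right ((hp.out.coprime_iff_not_dvd.2 hCp).symm)
        (Nat.Coprime.pow_right b ((Nat.prime_two.coprime_iff_not_dvd.2 hCo).symm))) h1
    exact Nat.dvd_antisymm h2 (S.dvd_card_centralizer (Subgroup.mem_zpowers x))
  have hne_e : NeZero e := ⟨by omega⟩
  set V : (ZMod e)ˣ → G := fun l => x ^ (l : ZMod e).val with hV
  have hVmem : ∀ l, V l ∈ Subgroup.zpowers x := fun l => pow_mem (Subgroup.mem_zpowers x) _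
  have hVo : ∀ l, orderOf (V l) = e := by
    intro l
    rw [hV, (S.order.symm ▸ (ZMod.val_coe_unit_coprime l).symm : Nat.Coprime (orderOf x) _).orderOf_pow,
      S.order]
  have hV1 : ∀ l, V l ≠ 1 := fun l h => by
    have := hVo l; rw [h, orderOf_one] at this; omega
  have hV2 : ∀ l, V l * V l ≠ 1 := fun l h => by
    have h1 : orderOf (V l) ∣ 2 := orderOf_dvd_of_pow_eq_one (by rw [pow_two]; exact h)
    rw [hVo l] at h1
    have := Nat.le_of_dvd (by norm_num) h1
    omega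
  have hCV : ∀ l, Nat.card ↥(Subgroup.centralizer ({V l} : Set G)) = e := by
    intro l
    refine Nat.dvd_antisymm (hCx ▸ Subgroup.card_dvd_of_le fun c hc => ?_) (S.dvd_card_centralizer (hVmem l))
    have hxV : x ∈ Subgroup.zpowers (V l) := by
      rw [Subgroup.eq_of_le_of_card_ge (Subgroup.zpowers_le.2 (hVmem l))
        (by rw [Nat.card_zpowers, Nat.card_zpowers, hVo, S.order])]
      exact Subgroup.mem_zpowers x
    obtain ⟨i, hi⟩ := Subgroup.mem_zpowers_iff.1 hxV
    rw [Subgroup.mem_centralizer_singleton_iff, ← hi]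
    exact ((show Commute c (V l) from Subgroup.mem_centralizer_singleton_iff.1 hc).zpow_right i).eq
  set T := Char.trivialIrr G with hT
  set O := (insert T (X1 ∪ Y))ᶜ with hO
  have hXY : Disjoint X1 Y := D.disj.mono_left fun χ hχ => (hX1 χ hχ).1
  have hsplit : ∀ F : Cfsg.IrrCharacter G → ℂ,
      ∑ χ, F χ = F T + ∑ χ ∈ X1, F χ + ∑ χ ∈ Y, F χ + ∑ χ ∈ O, F χ := by
    intro F
    rw [← Finset.sum_add_sum_compl (insert T (X1 ∪ Y)), Finset.sum_insert, Finset.sum_union hXY]
    · ring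
    · rw [Finset.mem_union]
      exact not_or.2 ⟨fun h => D.trivX (hX1 _ h).1, D.trivY⟩
  have hOsum : ∀ l, ∑ χ ∈ O, (χ : G → ℂ) (V l) * conj ((χ : G → ℂ) (V l)) = 1 := by
    intro l
    have h := Char.sum_irr_mul_conj (V l) (V l)
    rw [if_pos (IsConj.refl _), hCV, hsplit, hT, trivialIrr_apply, map_one, mul_one,
      hsq _ (hVmem l) (hV1 l) (hV2 l),
      Finset.sum_eq_zero (s := Y) (fun θ hθ => by rw [(D.plus_theta S hθ).2 _ (hVmem l) (hV1 l), zero_mul])] at h
    linear_combination h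
  set l₀ : (ZMod e)ˣ := 1
  have hV0 : V l₀ = x := by
    haveI : Fact (1 < e) := ⟨by omega⟩
    simp [hV, l₀, ZMod.val_one]
  have hunique : ∀ χ ∈ O, ∀ χ' ∈ O, (χ : G → ℂ) x ≠ 0 → (χ' : G → ℂ) x ≠ 0 → χ = χ' := by
    intro χ hχ χ' hχ' h1 h1'
    by_contra hne
    have hfam : ∀ φ : Cfsg.IrrCharacter G, (φ : G → ℂ) x ≠ 0 →
        (Fintype.card (ZMod e)ˣ : ℝ) ≤ ∑ l, ‖(φ : G → ℂ) (V l)‖ ^ 2 := by
      intro φ hφ
      exact GalAvg.card_le_sum_norm_sq (GalAvg.isCharacter_pow_mem (Char.isCharacter_of_irr φ.2) x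
        (orderOf_dvd_iff_pow_eq_one.1 (dvd_of_eq S.order))) ⟨l₀, by rw [← hV0] at hφ; exact hφ⟩
    have htot : ∀ l, ∑ φ ∈ O, ‖(φ : G → ℂ) (V l)‖ ^ 2 = 1 := by
      intro l
      have h := hOsum l
      simp only [Complex.mul_conj'] at h
      exact_mod_cast h
    have h2 : ∑ φ ∈ ({χ, χ'} : Finset _), ∑ l, ‖(φ : G → ℂ) (V l)‖ ^ 2 ≤
        ∑ φ ∈ O, ∑ l, ‖(φ : G → ℂ) (V l)‖ ^ 2 :=
      Finset.sum_le_sum_of_subset_of_nonneg (by simp [Finset.insert_subset_iff, hχ, hχ'])
        fun _ _ _ => Finset.sum_nonneg fun _ _ => sq_nonneg _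
    rw [Finset.sum_comm (s := O), Finset.sum_congr rfl fun l _ => htot l, Finset.sum_const,
      Finset.card_univ, nsmul_eq_mul, mul_one, Finset.sum_pair hne] at h2
    have h3 := hfam χ h1
    have h4 := hfam χ' h1'
    have h5 : (0 : ℝ) < Fintype.card (ZMod e)ˣ := Nat.cast_pos.2 Fintype.card_pos
    linarith
  have hOx := hOsum l₀
  rw [hV0] at hOx
  obtain ⟨χ₀, hχ₀, hχ₀x⟩ := Finset.exists_ne_zero_of_sum_ne_zero (by rw [hOx]; exact one_ne_zero)
  replace hχ₀x : (χ₀ : G → ℂ) x ≠ 0 := fun h => hχ₀x (by rw [h, zero_mul])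
  have hO0 : ∀ φ ∈ O, φ ≠ χ₀ → (φ : G → ℂ) x = 0 := fun φ hφ hne => by
    by_contra h; exact hne (hunique φ hφ χ₀ hχ₀ h hχ₀x)
  rw [Finset.sum_eq_single χ₀ (fun φ hφ hne => by rw [hO0 φ hφ hne, zero_mul]) (fun h => absurd hχ₀ h)] at hOx
  have hx1 : x ≠ 1 := fun h => by have := S.order; rw [h, orderOf_one] at this; omega
  have hcol1 := Char.sum_irr_mul_conj (1 : G) x
  rw [if_neg (fun h => hx1 (isConj_one_right.1 h)), hsplit, hT, trivialIrr_apply, trivialIrr_apply, map_one,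
    mul_one, Finset.sum_congr rfl (fun χ hχ => by rw [D.deg χ, (hX1 χ hχ).2] :
      ∀ χ ∈ X1, (χ : G → ℂ) 1 * conj ((χ : G → ℂ) x) = ((p + 1 : ℕ) : ℂ) * conj ((χ : G → ℂ) x)),
    ← Finset.mul_sum, ← map_sum, hsum1 x (Subgroup.mem_zpowers x) hx1,
    Finset.sum_eq_zero (s := Y) (fun θ hθ => by
      rw [(D.plus_theta S hθ).2 _ (Subgroup.mem_zpowers x) hx1, map_zero, mul_zero]),
    Finset.sum_eq_single χ₀ (fun φ hφ hne => by rw [hO0 φ hφ hne, map_zero, mul_zero])
      (fun h => absurd hχ₀ h), D.deg χ₀] at hcol1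
  have hf0 : dg χ₀ = p ∧ (χ₀ : G → ℂ) x = 1 := by
    simp only [map_neg, map_one, Nat.cast_add, Nat.cast_one] at hcol1
    have h1 : (dg χ₀ : ℂ) * conj ((χ₀ : G → ℂ) x) = (p : ℂ) := by linear_combination hcol1
    have h2 := congrArg (fun z : ℂ => ‖z‖) h1
    simp only [norm_mul, RCLike.norm_natCast, RCLike.norm_conj] at h2
    have h3 : ‖(χ₀ : G → ℂ) x‖ = 1 := by
      rw [Complex.mul_conj'] at hOx
      have h4 : ‖(χ₀ : G → ℂ) x‖ ^ 2 = 1 := by exact_mod_cast hOx
      exact (pow_eq_one_iff_of_nonneg (norm_nonneg _) two_ne_zero).1 h4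
    rw [h3, mul_one] at h2
    have h5 : dg χ₀ = p := by exact_mod_cast h2
    refine ⟨h5, ?_⟩
    rw [h5, mul_eq_left₀ (Nat.cast_ne_zero.2 hp.out.ne_zero)] at h1
    simpa using congrArg conj h1
  -- the class coefficient at a central involution
  obtain ⟨n, hn'⟩ : p ∣ Nat.card (Sylow p G) - 1 :=
    (Nat.modEq_iff_dvd' Nat.card_pos).1 (card_sylow_modEq_one p G).symm
  have hn : Nat.card (Sylow p G) = 1 + n * p := by
    have := Nat.card_pos (α := Sylow p G); rw [mul_comm]; omega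
  have hA := D.card_pe S hn
  rw [mul_comm (2 ^ b), Nat.mul_right_inj (by omega)] at hA
  have hn1 : 1 ≤ n := S.n_pos hn hG
  have hb0 : 0 < b := by
    rcases Nat.eq_zero_or_pos b with h | h
    · subst h; rw [pow_zero] at hA; have := Nat.le_mul_of_pos_left p hn1; omega
    · exact h
  obtain ⟨z, hz, hzC⟩ := exists_involution_dvd_centralizer (G := G) hb0
    ⟨p * e, by rw [hcard]; ring⟩
  set Cz := Subgroup.centralizer ({z} : Set G)
  have hidx : Cz.index ∣ p * e := by
    obtain ⟨c, hc⟩ := hzC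
    refine ⟨c, Nat.eq_of_mul_eq_mul_left (pow_pos (show 0 < 2 by norm_num) b) ?_⟩
    rw [← mul_assoc (2 ^ b), mul_comm (2 ^ b) p, ← hcard, ← Cz.card_mul_index, hc]
    ring
  have hX1z : ∀ χ ∈ X1, (χ : G → ℂ) z = 0 := by
    intro χ hχ
    have hf : (χ : G → ℂ) 1 = ((p + 1 : ℕ) : ℂ) := by rw [D.deg χ, (hX1 χ hχ).2]
    obtain ⟨v, hv, -, hvlt⟩ := Exceptional.exists_involution_value_lt χ.2 hf hz
    obtain ⟨i, hi, hvi⟩ := hvlt (by omega)
    have hne := value_ne_neg_degree χ.2 hf (by omega) hz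
    rw [hv] at hne
    have hi0 : i ≠ 0 := by
      rintro rfl; apply hne; rw [hvi]; push_cast; ring
    have hcop : Nat.Coprime (p + 1) Cz.index := by
      refine Nat.Coprime.coprime_dvd_right hidx (Nat.Coprime.mul_right (by simp) ?_)
      rw [hk]
      exact Nat.Coprime.pow_left k (Nat.coprime_two_left.2 hodd)
    obtain ⟨c, hc⟩ := dvd_value hf hv dvd_rfl hcop
    have hc0 : c = 0 := by
      push_cast at hc
      by_contra h
      rcases lt_or_gt_of_ne h with h | h
      · have : ((p : ℤ) + 1) * c ≤ ((p : ℤ) + 1) * (-1) := mul_le_mul_of_nonneg_left (by omega) (by positivity)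
        omega
      · have : ((p : ℤ) + 1) * 1 ≤ ((p : ℤ) + 1) * c := mul_le_mul_of_nonneg_left (by omega) (by positivity)
        omega
    rw [hv, hc, hc0, mul_zero, Int.cast_zero]
  obtain ⟨v₀, hv₀, i₀, hi₀, hvi₀⟩ := Exceptional.exists_involution_value (Char.isCharacter_of_irr χ₀.2)
    (show (χ₀ : G → ℂ) 1 = (p : ℂ) by rw [D.deg χ₀, hf0.1]) hz
  have hzz : z * z = 1 := by rw [← pow_two, ← hz]; exact pow_orderOf_eq_one z
  have hcoef := sum_sq_mul_conj hzz x
  rw [hsplit, hT, trivialIrr_apply, trivialIrr_apply, trivialIrr_apply, one_pow, map_one, mul_one, div_one,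
    Finset.sum_eq_zero (s := X1) (fun χ hχ => by rw [hX1z χ hχ]; ring),
    Finset.sum_eq_zero (s := Y) (fun θ hθ => by
      rw [(D.plus_theta S hθ).2 _ (Subgroup.mem_zpowers x) hx1, map_zero, mul_zero, zero_div]),
    Finset.sum_eq_single χ₀ (fun φ hφ hne => by rw [hO0 φ hφ hne, map_zero, mul_zero, zero_div])
      (fun h => absurd hχ₀ h), hf0.2, map_one, mul_one, hv₀, D.deg χ₀, hf0.1] at hcoef
  set N := (conjPairs z x).card with hN
  have heq : (e : ℤ) * 2 ^ b * (p + v₀ ^ 2) = (Nat.card ↥Cz : ℤ) ^ 2 * N := by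
    have hp0 : (p : ℂ) ≠ 0 := Nat.cast_ne_zero.2 hp.out.ne_zero
    rw [hcard] at hcoef
    push_cast at hcoef
    field_simp at hcoef
    exact_mod_cast (by linear_combination hcoef :
      ((e : ℂ) * 2 ^ b * ((p : ℂ) + (v₀ : ℂ) ^ 2)) = (Nat.card ↥Cz : ℂ) ^ 2 * (N : ℂ))
  have hpos : (0 : ℤ) < (e : ℤ) * 2 ^ b * (p + v₀ ^ 2) := by
    have : (0 : ℤ) < (e : ℤ) := by exact_mod_cast (show 0 < e by omega)
    have : (0 : ℤ) < (p : ℤ) + v₀ ^ 2 := by
      have : (0 : ℤ) < (p : ℤ) := by exact_mod_cast hp.out.pos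
      linarith [sq_nonneg v₀]
    positivity
  have hNe : e ≤ N := by
    have hN0 : N ≠ 0 := by intro h; rw [heq, h] at hpos; simp at hpos
    obtain ⟨w₀, hw₀⟩ := Finset.card_ne_zero.1 hN0
    obtain ⟨hw₀z, hw₀xz⟩ := (Finset.mem_filter.1 hw₀).2
    obtain ⟨hww, hinv⟩ := inverts_of_mem_conjPairs hzz hw₀
    have hconj : ∀ i : ℕ, IsConj z (w₀ * x ^ i) := by
      intro i
      refine hw₀z.trans (isConj_iff.2 ?_)
      obtain ⟨j, hj⟩ : ∃ j : ℤ, (e : ℤ) ∣ -2 * j - i := by
        obtain ⟨h, hh⟩ := hodd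
        exact ⟨(i : ℤ) * h, -i, by rw [hh]; push_cast; ring⟩
      refine ⟨x ^ j, ?_⟩
      have hwi : w₀⁻¹ = w₀ := inv_eq_of_mul_eq_one_right hww
      have hconj : w₀ * x ^ j * w₀⁻¹ = x ^ (-j) := by
        rw [← conj_zpow, hwi, hinv, inv_zpow, ← zpow_neg]
      have h1 : x ^ j * w₀ = w₀ * x ^ (-j) := by
        rw [← hconj, hwi, ← mul_assoc, ← mul_assoc, hww, one_mul]
      rw [h1, mul_assoc, ← zpow_neg, ← zpow_add]
      congr 1
      rw [← zpow_natCast x i, ← orderOf_dvd_sub_iff_zpow_eq_zpow, S.order]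
      convert hj using 1
      ring
    calc e = ((Finset.range e).image fun i => w₀ * x ^ i).card := by
          rw [Finset.card_image_of_injOn, Finset.card_range]
          intro i hi j hj hij
          have h := mul_left_cancel hij
          rw [pow_eq_pow_iff_modEq, S.order] at h
          exact Nat.ModEq.eq_of_lt_of_lt h (Finset.mem_range.1 hi) (Finset.mem_range.1 hj)
      _ ≤ N := Finset.card_le_card fun w hw => by
          obtain ⟨i, -, rfl⟩ := Finset.mem_image.1 hw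
          refine Finset.mem_filter.2 ⟨Finset.mem_univ _, hconj i, ?_⟩
          rw [mul_assoc, ← pow_succ]
          exact hconj (i + 1)
  have hρ : (2 : ℤ) ^ b ≤ Nat.card ↥Cz := by exact_mod_cast Nat.le_of_dvd Nat.card_pos hzC
  have hle : (2 : ℤ) ^ b ≤ p + v₀ ^ 2 := by
    have h1 : ((2 : ℤ) ^ b) ^ 2 * e ≤ (Nat.card ↥Cz : ℤ) ^ 2 * N :=
      mul_le_mul (pow_le_pow_left₀ (by positivity) hρ 2) (by exact_mod_cast hNe) (by positivity) (by positivity)
    rw [← heq, show (e : ℤ) * 2 ^ b * (p + v₀ ^ 2) = 2 ^ b * ((p + v₀ ^ 2) * e) by ring,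
      show ((2 : ℤ) ^ b) ^ 2 * e = 2 ^ b * (2 ^ b * e) by ring] at h1
    exact le_of_mul_le_mul_right (le_of_mul_le_mul_left h1 (by positivity)) (by exact_mod_cast (show 0 < e by omega))
  have hv₀le : v₀ ^ 2 ≤ (p : ℤ) ^ 2 := by
    apply sq_le_sq' <;> omega
  have hlt : 2 ^ b < (p + 1) * (p + 1) := by
    have : (2 : ℤ) ^ b < ((p : ℤ) + 1) * ((p : ℤ) + 1) := by
      have : (0 : ℤ) < p := by exact_mod_cast hp.out.pos
      nlinarith
    exact_mod_cast this
  rw [hk, ← pow_add, Nat.pow_lt_pow_iff_right (by norm_num)] at hlt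
  -- `2 ^ b ≡ 1` modulo `p = 2 ^ k - 1`
  have hbk : 2 ^ b = 2 ^ k * 2 ^ (b - k) := by rw [← pow_add, Nat.add_sub_cancel' hkb]
  have hsmall : 2 ^ (b - k) ≤ 2 ^ k := Nat.pow_le_pow_right (by norm_num) (by omega)
  rw [← hA] at hbk
  have h1 : 2 ^ (b - k) < p + 1 := by
    rcases Nat.lt_or_ge (b - k) k with h | h
    · rw [hk]; exact Nat.pow_lt_pow_right (by norm_num) h
    · omega
  have hz1 : 2 ^ (b - k) = 1 := by
    rw [← hk] at hbk
    have h2 : (p : ℤ) ∣ (2 : ℤ) ^ (b - k) - 1 := ⟨(n : ℤ) - 2 ^ (b - k), by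
      have : ((1 + n * p : ℕ) : ℤ) = (((p + 1) * 2 ^ (b - k) : ℕ) : ℤ) := by rw [hbk]
      push_cast at this
      linear_combination -this⟩
    obtain ⟨c, hc⟩ := h2
    have hpw : (1 : ℤ) ≤ 2 ^ (b - k) := one_le_pow₀ (by norm_num)
    have hlt' : (2 : ℤ) ^ (b - k) < (p : ℤ) + 1 := by exact_mod_cast h1
    have hc0 : c = 0 := by
      have : (p : ℤ) * c < p * 1 := by linarith
      have := lt_of_mul_lt_mul_left this (Int.natCast_nonneg _)
      have : (p : ℤ) * (-1) < p * c := by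
        have : (0 : ℤ) < p := by exact_mod_cast hp.out.pos
        linarith
      have := lt_of_mul_lt_mul_left this (Int.natCast_nonneg _)
      omega
    rw [hc0, mul_zero, sub_eq_zero] at hc
    exact_mod_cast hc
  rw [hz1, mul_one, ← hk] at hbk
  rw [hn, show n = 1 from Nat.eq_of_mul_eq_mul_right hp.out.pos (by omega)]

end Cfsg.Agent.SmallGroups.SelfCentPrime.Cofactor
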