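import Cfsg.Agent.SmallGroups.SelfCentPrime.Cofactor.Common

/-!
# The exceptional degree `e`: the constituents of `θ θ̄`

They have degree `p + 1`, there are two exceptional characters, and the fixed spaces of `P` share out the
non-trivial characters of the complement.
-/

set_option linter.style.haveILetI false
set_option linter.unusedSectionVars false

noncomputable section

namespace Cfsg.Agent.SmallGroups.SelfCentPrime.Cofactor

open scoped Classical ComplexConjugate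
open Cfsg Finset

universe u

variable {H : Type u} [Group H] [Fintype H]

theorem trivialIrr_apply (g : H) : ((Char.trivialIrr H : Cfsg.IrrCharacter H) : H → ℂ) g = 1 := rfl

/-- The sum of the values of a linear character. -/
theorem sum_conj_apply (μ : Cfsg.IrrCharacter H) :
    ∑ y : H, conj ((μ : H → ℂ) y) = if μ = Char.trivialIrr H then (Nat.card H : ℂ) else 0 := by
  split_ifs with h
  · subst h
    simp [trivialIrr_apply, Nat.card_eq_fintype_card]
  · have h1 := CharInd.classInner_irr_ne (Char.trivialIrr H : Cfsg.IrrCharacter H).2 μ.2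
      (fun h' => h (Subtype.ext h'.symm))
    rw [Cfsg.classInner, mul_eq_zero, or_iff_right (inv_ne_zero Char.card_ne_zero_complex)] at h1
    rw [← h1]
    exact Finset.sum_congr rfl fun y _ => by rw [trivialIrr_apply, one_mul]

variable {G : Type u} [Group G] [Fintype G] {p : ℕ} [hp : Fact p.Prime]
variable {P : Sylow p G} {x : G} {q b g₀ e t d : ℕ} {X Y : Finset (Cfsg.IrrCharacter G)}
  {sg : Cfsg.IrrCharacter G → ℤ} {dg : Cfsg.IrrCharacter G → ℕ}
  (D : Data P q b g₀ e t 1 d X Y sg dg) (S : Setup P x e)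
include D S

theorem Data.d_eq : d = e := by
  rcases D.cases with ⟨-, h⟩ | ⟨h, -⟩
  · exact h
  · norm_num at h

/-- An exceptional character vanishes on the complement. -/
theorem Data.plus_theta {θ : Cfsg.IrrCharacter G} (hθ : θ ∈ Y) :
    ∑ v : ↥(P : Subgroup G), (θ : G → ℂ) v = 0 ∧
      ∀ y ∈ Subgroup.zpowers x, y ≠ 1 → (θ : G → ℂ) y = 0 := by
  choose m a hm hma hmy hmμ using fun χ : Cfsg.IrrCharacter G =>
    S.exists_fixed_decomp (Char.isCharacter_of_irr χ.2)
  have h : ((∑ φ ∈ Y, m φ * p : ℕ) : ℂ) = ((0 : ℕ) : ℂ) := by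
    push_cast
    rw [Finset.sum_congr rfl (fun φ _ => hm φ :
      ∀ φ ∈ Y, (m φ : ℂ) * p = ∑ v : ↥(P : Subgroup G), (φ : G → ℂ) v), D.sum_Y_P S, D.d_eq S]
    have hte : (t : ℂ) * e + 1 = p := by
      exact_mod_cast (show t * e + 1 = p by have := D.te; have := hp.out.one_le; omega)
    push_cast
    linear_combination hte
  have h0 : m θ = 0 := by
    have h1 := (Finset.sum_eq_zero_iff.1 (Nat.cast_injective h)) θ hθ
    simpa [hp.out.ne_zero] using h1
  refine ⟨by rw [← hm θ, h0]; simp, fun y hy hy1 => ?_⟩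
  rw [show (θ : G → ℂ) y = _ from hmy θ ⟨y, hy⟩ fun h => hy1 (congrArg Subtype.val h)]
  refine Finset.sum_eq_zero fun μ _ => ?_
  have : a θ μ = 0 := Nat.eq_zero_of_le_zero (h0 ▸ hma θ ▸
    Finset.single_le_sum (fun _ _ => Nat.zero_le _) (Finset.mem_univ μ))
  rw [this, Nat.cast_zero, zero_mul]

/-- The constituents of `θ θ̄`. -/
theorem Data.plus_shape : t = 2 ∧ 3 ≤ e ∧ ∃ (X1 : Finset (Cfsg.IrrCharacter G))
    (a : Cfsg.IrrCharacter G → Cfsg.IrrCharacter ↥(Subgroup.zpowers x) → ℕ),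
    2 * X1.card + 1 = e ∧
    (∀ χ ∈ X1, χ ∈ X ∧ dg χ = p + 1) ∧
    (∀ χ ∈ X1, ∑ μ, a χ μ = 2 ∧ (∀ μ, a χ μ ≤ 1) ∧ ∀ y : ↥(Subgroup.zpowers x), y ≠ 1 →
      (χ : G → ℂ) y = ∑ μ, (a χ μ : ℂ) * (μ : ↥(Subgroup.zpowers x) → ℂ) y) ∧
    (∀ μ, ∑ χ ∈ X1, a χ μ = if μ = Char.trivialIrr ↥(Subgroup.zpowers x) then 0 else 1) ∧
    ∀ y ∈ Subgroup.zpowers x, y ≠ 1 → ∑ χ ∈ X1, (χ : G → ℂ) y = -1 := by
  have hp3 := D.three_le_p
  have he2 := D.two_le_e
  have ht2 := D.two_le_t
  choose m a hm hma hmy hmμ using fun χ : Cfsg.IrrCharacter G =>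
    S.exists_fixed_decomp (Char.isCharacter_of_irr χ.2)
  set T := Char.trivialIrr G with hT
  have hmT : m T = 1 := by
    have h := hm T
    rw [S.sum_P (f := ((T : Cfsg.IrrCharacter G) : G → ℂ)) (c := 1)
      (fun v _ _ => trivialIrr_apply v), hT, trivialIrr_apply] at h
    have h' : ((m T * p : ℕ) : ℂ) = ((1 * p : ℕ) : ℂ) := by push_cast; linear_combination h
    exact Nat.eq_of_mul_eq_mul_right hp.out.pos (Nat.cast_injective h')
  have hdT : dg T = 1 := by
    have h := (D.deg T).symm.trans (trivialIrr_apply 1)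
    exact_mod_cast h
  -- the linear bound, with the cases of equality
  have hL : ∀ χ : Cfsg.IrrCharacter G, χ ≠ T →
      (p + 1) * m χ ≤ 2 * dg χ ∧ ((p + 1) * m χ = 2 * dg χ → χ ∈ X ∧ dg χ = p + 1 ∧ m χ = 2) := by
    intro χ hχ
    have hpos : 0 < dg χ := by
      obtain ⟨k, hk, hk'⟩ := Char.irr_one_pos χ.2
      rw [D.deg χ] at hk'
      have : dg χ = k := by exact_mod_cast hk'
      omega
    by_cases hX : χ ∈ X
    · obtain ⟨hs, hbig, -, hd⟩ := D.degX χ hX
      have h := hm χ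
      rw [S.sum_P (f := (χ : G → ℂ)) (D.valX χ hX), D.deg χ] at h
      rcases hs with hs | hs <;> rw [hs] at h hd
      · have h' : m χ * p + 1 = dg χ + p := by
          apply Nat.cast_injective (R := ℂ); push_cast at h ⊢; linear_combination h
        have hm2 : 2 ≤ m χ := by
          by_contra hcon
          obtain ⟨k, hk⟩ := hd
          interval_cases hh : m χ
          · omega
          · omega
        refine ⟨by nlinarith, fun heq => ⟨hX, ?_⟩⟩
        have hm2' : m χ = 2 := by nlinarith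
        rw [hm2'] at h'
        exact ⟨by omega, hm2'⟩
      · have h' : m χ * p + p = dg χ + 1 := by
          apply Nat.cast_injective (R := ℂ); push_cast at h ⊢; linear_combination h
        have hlt : (p + 1) * m χ < 2 * dg χ := by nlinarith
        exact ⟨hlt.le, fun heq => absurd heq hlt.ne⟩
    by_cases hY : χ ∈ Y
    · have h0 : m χ = 0 := by
        have h := hm χ
        rw [(D.plus_theta S hY).1, mul_eq_zero, Nat.cast_eq_zero, Nat.cast_eq_zero] at h
        exact h.resolve_right hp.out.ne_zero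
      rw [h0, mul_zero]
      exact ⟨Nat.zero_le _, fun heq => by omega⟩
    · have h := hm χ
      rw [S.sum_P (f := (χ : G → ℂ)) (D.valR χ hχ hX hY).2, D.deg χ, mul_zero, add_zero] at h
      have h' : m χ * p = dg χ := by exact_mod_cast h
      have hm1 : 1 ≤ m χ := by
        rcases Nat.eq_zero_or_pos (m χ) with h0 | h0
        · rw [h0, zero_mul] at h'; omega
        · exact h0
      have hlt : (p + 1) * m χ < 2 * dg χ := by rw [← h']; nlinarith
      exact ⟨hlt.le, fun heq => absurd heq hlt.ne⟩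
  -- the coefficients
  have hΦ : ∀ θ : Cfsg.IrrCharacter G, ∃ c : Cfsg.IrrCharacter G → ℕ, c T = 1 ∧
      ∀ g : G, (θ : G → ℂ) g * conj ((θ : G → ℂ) g) = ∑ χ, (c χ : ℂ) * (χ : G → ℂ) g := by
    intro θ
    obtain ⟨c, hc, hc'⟩ := Char.isCharacter_exists_coeff (Char.isCharacter_mul (Char.isCharacter_of_irr θ.2)
      (Char.isCharacter_conjFun (Char.isCharacter_of_irr θ.2)))
    refine ⟨c, ?_, fun g => ?_⟩
    · have h := hc' T
      rw [show Cfsg.classInner ((θ : G → ℂ) * fun g => conj ((θ : G → ℂ) g)) (T : G → ℂ) =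
        Cfsg.classInner (θ : G → ℂ) (θ : G → ℂ) by
          simp only [Cfsg.classInner, Pi.mul_apply, hT, trivialIrr_apply, map_one, mul_one],
        Char.classInner_irr_self θ.2] at h
      exact_mod_cast h.symm
    · have h := congrFun hc g
      simp only [Pi.mul_apply, Finset.sum_apply, Pi.smul_apply, nsmul_eq_mul] at h
      exact h
  choose c hcT hc using hΦ
  set U := (Finset.univ : Finset (Cfsg.IrrCharacter G)).erase T with hU
  have hF : ∀ θ ∈ Y, ∑ χ ∈ U, c θ χ * dg χ + 1 = e * e := by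
    intro θ hθ
    have h := hc θ 1
    rw [D.deg θ, D.degY θ hθ, D.d_eq S, map_natCast, ← Finset.add_sum_erase _ _ (Finset.mem_univ T), hcT,
      Finset.sum_congr rfl (fun χ _ => by rw [D.deg χ] :
        ∀ χ ∈ U, (c θ χ : ℂ) * (χ : G → ℂ) 1 = (c θ χ : ℂ) * dg χ), D.deg T, hdT] at h
    have h' : ((∑ χ ∈ U, c θ χ * dg χ + 1 : ℕ) : ℂ) = ((e * e : ℕ) : ℂ) := by
      push_cast; push_cast at h; linear_combination -h
    exact_mod_cast h'
  have hMsum : ∑ θ ∈ Y, (∑ χ ∈ U, c θ χ * m χ + 1) = p - 1 := by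
    refine Nat.eq_of_mul_eq_mul_left hp.out.pos (Nat.cast_injective (R := ℂ) ?_)
    push_cast [Nat.cast_sub hp.out.one_le]
    have hθP : ∀ θ : Cfsg.IrrCharacter G, (p : ℂ) * (∑ χ ∈ U, (c θ χ : ℂ) * m χ + 1) =
        ∑ v : ↥(P : Subgroup G), (θ : G → ℂ) v * conj ((θ : G → ℂ) v) := by
      intro θ
      rw [show ∑ v : ↥(P : Subgroup G), (θ : G → ℂ) v * conj ((θ : G → ℂ) v) =
          ∑ χ, (c θ χ : ℂ) * ((m χ : ℂ) * p) by
        simp only [hc θ]
        rw [Finset.sum_comm]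
        exact Finset.sum_congr rfl fun χ _ => by rw [hm χ, Finset.mul_sum],
        ← Finset.add_sum_erase _ _ (Finset.mem_univ T), hcT, hmT, mul_add, Finset.mul_sum]
      push_cast
      rw [mul_one, one_mul, one_mul, add_comm]
      congr 1
      exact Finset.sum_congr rfl fun χ _ => by ring
    rw [Finset.mul_sum, Finset.sum_congr rfl fun θ _ => hθP θ, Finset.sum_comm,
      S.sum_P (f := fun g => ∑ θ ∈ Y, (θ : G → ℂ) g * conj ((θ : G → ℂ) g)) (c := (p : ℂ) - e)
        (fun v hv hv1 => D.sum_Y_sq S hv hv1),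
      Finset.sum_congr rfl (fun θ hθ => by rw [D.deg θ, D.degY θ hθ, D.d_eq S, map_natCast] :
        ∀ θ ∈ Y, (θ : G → ℂ) 1 * conj ((θ : G → ℂ) 1) = (e : ℂ) * e),
      Finset.sum_const, D.cardY, nsmul_eq_mul]
    have hte : (t : ℂ) * e + 1 = p := by
      exact_mod_cast (show t * e + 1 = p by have := D.te; omega)
    linear_combination (e : ℂ) * hte
  have hle : ∀ θ ∈ Y, (p + 1) * ∑ χ ∈ U, c θ χ * m χ ≤ 2 * ∑ χ ∈ U, c θ χ * dg χ := by
    intro θ _
    rw [Finset.mul_sum, Finset.mul_sum]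
    refine Finset.sum_le_sum fun χ hχ => ?_
    calc (p + 1) * (c θ χ * m χ) = c θ χ * ((p + 1) * m χ) := by ring
      _ ≤ c θ χ * (2 * dg χ) := Nat.mul_le_mul_left _ (hL χ (Finset.ne_of_mem_erase hχ)).1
      _ = 2 * (c θ χ * dg χ) := by ring
  have hFsum : ∑ θ ∈ Y, 2 * (∑ χ ∈ U, c θ χ * dg χ) + 2 * t = 2 * t * (e * e) := by
    have : ∑ θ ∈ Y, 2 * (∑ χ ∈ U, c θ χ * dg χ + 1) = ∑ θ ∈ Y, 2 * (e * e) :=
      Finset.sum_congr rfl fun θ hθ => by rw [hF θ hθ]
    rw [Finset.sum_const, D.cardY, smul_eq_mul, ← Finset.mul_sum, Finset.sum_add_distrib, Finset.sum_const,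
      D.cardY, smul_eq_mul, mul_add, Finset.mul_sum, mul_one] at this
    rw [this]; ring
  rw [Finset.sum_add_distrib, Finset.sum_const, D.cardY, smul_eq_mul, mul_one] at hMsum
  have htot := Finset.sum_le_sum hle
  rw [← Finset.mul_sum] at htot
  obtain ⟨e', he'⟩ : ∃ e', e = e' + 1 := ⟨e - 1, by omega⟩
  have hte := D.te
  have hM' : ∑ θ ∈ Y, ∑ χ ∈ U, c θ χ * m χ = t * e' := by
    rw [← hte, he', mul_add, mul_one] at hMsum; omega
  have ht : t = 2 := by
    refine le_antisymm ?_ ht2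
    rw [hM'] at htot
    by_contra hcon
    have h3 : 3 * e ≤ t * e := Nat.mul_le_mul_right e (by omega)
    have hpe : p = t * e + 1 := by omega
    have hFr : ∑ θ ∈ Y, 2 * (∑ χ ∈ U, c θ χ * dg χ) = t * e' * (2 * e + 2) := by
      have : 2 * t * (e * e) = t * e' * (2 * e + 2) + 2 * t := by rw [he']; ring
      omega
    rw [hFr, mul_comm (p + 1)] at htot
    have := Nat.le_of_mul_le_mul_left htot (Nat.mul_pos (by omega) (by omega))
    omega
  subst ht
  have hpe : p = 2 * e + 1 := by omega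
  have heq : ∀ θ ∈ Y, (p + 1) * ∑ χ ∈ U, c θ χ * m χ = 2 * ∑ χ ∈ U, c θ χ * dg χ := by
    refine (Finset.sum_eq_sum_iff_of_le hle).1 ?_
    rw [← Finset.mul_sum, hM', hpe]
    have : 2 * 2 * (e * e) = (2 * e + 1 + 1) * (2 * e') + 2 * 2 := by rw [he']; ring
    omega
  obtain ⟨θ, hθ⟩ := D.exists_mem
  set X1 := U.filter fun χ => c θ χ ≠ 0 with hX1
  have hX1p : ∀ χ ∈ X1, χ ∈ X ∧ dg χ = p + 1 ∧ m χ = 2 := by
    intro χ hχ
    obtain ⟨hχU, hχc⟩ := Finset.mem_filter.1 hχ
    have hh := heq θ hθ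
    rw [Finset.mul_sum, Finset.mul_sum, Finset.sum_eq_sum_iff_of_le (fun χ hχ => by
      calc (p + 1) * (c θ χ * m χ) = c θ χ * ((p + 1) * m χ) := by ring
        _ ≤ c θ χ * (2 * dg χ) := Nat.mul_le_mul_left _ (hL χ (Finset.ne_of_mem_erase hχ)).1
        _ = 2 * (c θ χ * dg χ) := by ring)] at hh
    refine (hL χ (Finset.ne_of_mem_erase hχU)).2 (Nat.eq_of_mul_eq_mul_left (Nat.pos_of_ne_zero hχc) ?_)
    have := hh χ hχU
    linear_combination this
  have hsum1 : ∀ (F : Cfsg.IrrCharacter G → ℂ), ∑ χ, (c θ χ : ℂ) * F χ = F T + ∑ χ ∈ X1, (c θ χ : ℂ) * F χ := by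
    intro F
    rw [← Finset.add_sum_erase _ _ (Finset.mem_univ T), hcT, Nat.cast_one, one_mul, hX1]
    congr 1
    refine (Finset.sum_filter_of_ne (p := fun χ => c θ χ ≠ 0) fun χ _ hne hc0 => hne ?_).symm
    rw [hc0, Nat.cast_zero, zero_mul]
  have hK : 2 * ∑ χ ∈ X1, c θ χ = e' := by
    have h := hF θ hθ
    rw [← Finset.sum_filter_of_ne (p := fun χ => c θ χ ≠ 0) (fun χ _ hne hc0 => hne (by rw [hc0, zero_mul])),
      ← hX1, Finset.sum_congr rfl (fun χ hχ => by rw [(hX1p χ hχ).2.1] :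
        ∀ χ ∈ X1, c θ χ * dg χ = c θ χ * (p + 1)), ← Finset.sum_mul, hpe, he'] at h
    have h' : (∑ χ ∈ X1, c θ χ) * 2 * (e' + 2) = e' * (e' + 2) := by linear_combination h
    have := Nat.eq_of_mul_eq_mul_right (by omega) h'
    omega
  have hy0 : ∀ y ∈ Subgroup.zpowers x, y ≠ 1 → ∑ χ ∈ X1, (c θ χ : ℂ) * (χ : G → ℂ) y = -1 := by
    intro y hy hy1
    have h := hc θ y
    rw [(D.plus_theta S hθ).2 y hy hy1, zero_mul, hsum1 (fun χ => (χ : G → ℂ) y), hT, trivialIrr_apply] at h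
    linear_combination -h
  have hE : Nat.card ↥(Subgroup.zpowers x) = e := by rw [Nat.card_zpowers, S.order]
  have hcomm : ∀ u v : ↥(Subgroup.zpowers x), u * v = v * u :=
    fun u v => (inferInstance : IsMulCommutative ↥(Subgroup.zpowers x)).is_comm.comm u v
  have hcol : ∀ μ, ∑ χ ∈ X1, c θ χ * a χ μ =
      if μ = Char.trivialIrr ↥(Subgroup.zpowers x) then 0 else 1 := by
    intro μ
    refine Nat.eq_of_mul_eq_mul_left (show 0 < e by omega) (Nat.cast_injective (R := ℂ) ?_)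
    rw [Nat.cast_mul, Nat.cast_mul, Nat.cast_sum, Finset.mul_sum,
      Finset.sum_congr rfl (g := fun χ => (c θ χ : ℂ) * 2 +
        ∑ y ∈ (Finset.univ : Finset ↥(Subgroup.zpowers x)).erase 1,
          (c θ χ : ℂ) * (χ : G → ℂ) y * conj ((μ : ↥(Subgroup.zpowers x) → ℂ) y)) fun χ hχ => by
        rw [Nat.cast_mul, ← mul_assoc, mul_comm (e : ℂ), mul_assoc, mul_comm (e : ℂ), hmμ χ μ,
          (hX1p χ hχ).2.2, mul_add, Finset.mul_sum]
        push_cast
        congr 1
        exact Finset.sum_congr rfl fun y _ => by ring,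
      Finset.sum_add_distrib, Finset.sum_comm, ← Finset.sum_mul]
    rw [Finset.sum_congr rfl (g := fun y => -conj ((μ : ↥(Subgroup.zpowers x) → ℂ) y))
      (s₁ := (Finset.univ : Finset ↥(Subgroup.zpowers x)).erase 1) fun y hy => by
        rw [← Finset.sum_mul, hy0 y y.2 (fun h => Finset.ne_of_mem_erase hy (Subtype.ext h))]; ring]
    have hK' : (2 : ℂ) * ∑ χ ∈ X1, (c θ χ : ℂ) = e' := by exact_mod_cast hK
    have hrow := sum_conj_apply μ
    rw [← Finset.add_sum_erase _ _ (Finset.mem_univ (1 : ↥(Subgroup.zpowers x))), hE,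
      Char.irr_degree_one_of_comm hcomm μ.2, map_one] at hrow
    have he'' : (e : ℂ) = e' + 1 := by exact_mod_cast he'
    rw [Finset.sum_neg_distrib]
    split_ifs with h
    · rw [if_pos h] at hrow
      push_cast
      linear_combination hK' - hrow - he''
    · rw [if_neg h] at hrow
      push_cast
      linear_combination hK' - hrow - he''
  have hc1 : ∀ χ ∈ X1, c θ χ = 1 ∧ ∀ μ, a χ μ ≤ 1 := by
    intro χ hχ
    have hcpos : 0 < c θ χ := Nat.pos_of_ne_zero (Finset.mem_filter.1 hχ).2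
    have hle1 : ∀ μ, c θ χ * a χ μ ≤ 1 := fun μ => by
      have := Finset.single_le_sum (f := fun χ => c θ χ * a χ μ) (fun _ _ => Nat.zero_le _) hχ
      rw [hcol μ] at this
      split_ifs at this <;> omega
    obtain ⟨μ, -, hμ⟩ : ∃ μ ∈ (Finset.univ : Finset (Cfsg.IrrCharacter ↥(Subgroup.zpowers x))),
        a χ μ ≠ 0 := Finset.exists_ne_zero_of_sum_ne_zero (by rw [hma χ, (hX1p χ hχ).2.2]; norm_num)
    have hc1 : c θ χ = 1 := by
      have := Nat.le_mul_of_pos_right (c θ χ) (Nat.pos_of_ne_zero hμ)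
      have := hle1 μ
      omega
    exact ⟨hc1, fun μ => by have := hle1 μ; rwa [hc1, one_mul] at this⟩
  refine ⟨rfl, ?_, X1, a, ?_, fun χ hχ => ⟨(hX1p χ hχ).1, (hX1p χ hχ).2.1⟩, fun χ hχ =>
    ⟨(hma χ).trans (hX1p χ hχ).2.2, (hc1 χ hχ).2, hmy χ⟩, fun μ => ?_, fun y hy hy1 => ?_⟩
  · by_contra h
    obtain rfl : e = 2 := by omega
    omega
  · rw [Finset.sum_congr rfl fun χ hχ => (hc1 χ hχ).1, Finset.sum_const, smul_eq_mul, mul_one] at hK
    omega
  · rw [← hcol μ]
    exact Finset.sum_congr rfl fun χ hχ => by rw [(hc1 χ hχ).1, one_mul]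
  · rw [← hy0 y hy hy1]
    exact Finset.sum_congr rfl fun χ hχ => by rw [(hc1 χ hχ).1, Nat.cast_one, one_mul]

end Cfsg.Agent.SmallGroups.SelfCentPrime.Cofactor
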